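import Mathlib
import Cfsg.Prelude.Def_Solvable
import Cfsg.Agent.Lib.FrobCompl.Kernel

/-!
A finite group all of whose maximal subgroups are nilpotent is solvable.
-/

set_option autoImplicit false
set_option linter.style.haveILetI false

open Cfsg
open scoped Pointwise

namespace CfsgLib.Schmidt

universe u

variable {G : Type u} [Group G]

theorem lt_normalizer_inf {M D : Subgroup G} [Group.IsNilpotent M] (h : D < M) :
    D < Subgroup.normalizer (D : Set G) ⊓ M := by
  refine lt_of_le_of_ne (le_inf Subgroup.le_normalizer h.le) fun he => ?_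
  have hDM : D.subgroupOf M < ⊤ := lt_top_iff_ne_top.mpr fun e =>
    h.not_ge (Subgroup.subgroupOf_eq_top.mp e)
  have h1 := Group.normalizerCondition_of_isNilpotent (G := M) _ hDM
  rw [← Subgroup.subgroupOf_normalizer_eq h.le] at h1
  refine h1.ne ?_
  conv_lhs => rw [he]
  exact Subgroup.inf_subgroupOf_right _ _

theorem inf_eq_bot [Finite G] [IsSimpleGroup G] (h : ∀ M : Subgroup G, IsCoatom M → Group.IsNilpotent M)
    {M₁ M₂ : Subgroup G} (h₁ : IsCoatom M₁) (h₂ : IsCoatom M₂) (hne : M₁ ≠ M₂) : M₁ ⊓ M₂ = ⊥ := by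
  classical
  by_contra hD
  haveI : Finite (Subgroup G) := Finite.of_injective (fun K => (K : Set G)) SetLike.coe_injective
  obtain ⟨D, ⟨A, B, hA, hB, hAB, rfl, hD0⟩, hmax⟩ := (Set.toFinite {D : Subgroup G | ∃ A B : Subgroup G,
    IsCoatom A ∧ IsCoatom B ∧ A ≠ B ∧ D = A ⊓ B ∧ D ≠ ⊥}).exists_maximal
      ⟨_, M₁, M₂, h₁, h₂, hne, rfl, hD⟩
  have hltA : A ⊓ B < A := lt_of_le_of_ne inf_le_left fun e =>
    hAB ((hA.le_iff_eq hB.1).mp (inf_eq_left.mp e)).symm
  have hltB : A ⊓ B < B := lt_of_le_of_ne inf_le_right fun e =>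
    hAB ((hB.le_iff_eq hA.1).mp (inf_eq_right.mp e))
  have hNtop : Subgroup.normalizer ((A ⊓ B : Subgroup G) : Set G) ≠ ⊤ := fun e => by
    rcases (Subgroup.normalizer_eq_top_iff.mp e).eq_bot_or_eq_top with e1 | e1
    · exact hD0 e1
    · exact hA.1 (top_le_iff.mp (e1 ▸ inf_le_left))
  obtain ⟨C, hC, hNC⟩ := (IsCoatomic.eq_top_or_exists_le_coatom
    (Subgroup.normalizer ((A ⊓ B : Subgroup G) : Set G))).resolve_left hNtop
  have key : ∀ X : Subgroup G, IsCoatom X → A ⊓ B < X → X = C := by
    intro X hX hlt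
    by_contra hXC
    haveI := h X hX
    have h1 : A ⊓ B < C ⊓ X :=
      (lt_normalizer_inf hlt).trans_le (inf_le_inf_right _ hNC)
    exact h1.not_ge (hmax ⟨C, X, hC, hX, fun e => hXC e.symm, rfl, ne_bot_of_gt h1⟩ h1.le)
  exact hAB ((key A hA hltA).trans (key B hB hltB).symm)

theorem isSolvable_aux (n : ℕ) : ∀ (G : Type u) [Group G] [Finite G], Nat.card G = n →
    (∀ M : Subgroup G, IsCoatom M → Group.IsNilpotent M) → Group.IsSolvable G := by
  induction n using Nat.strong_induction_on with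
  | _ n IH =>
  intro G _ _ hn h
  classical
  rcases subsingleton_or_nontrivial G with hs | hs
  · infer_instance
  by_cases hsimple : IsSimpleGroup G
  · by_cases hcomm : ∀ a b : G, a * b = b * a
    · exact Group.isSolvable_of_comm hcomm
    exfalso
    obtain ⟨M, hM, -⟩ := (IsCoatomic.eq_top_or_exists_le_coatom (⊥ : Subgroup G)).resolve_left bot_ne_top
    have hM0 : M ≠ ⊥ := by
      rintro rfl
      obtain ⟨x, hx⟩ := exists_ne (1 : G)
      have htop : Subgroup.zpowers x = ⊤ := hM.2 _ (bot_lt_iff_ne_bot.mpr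
        fun e => hx (Subgroup.zpowers_eq_bot.mp e))
      refine hcomm fun a b => ?_
      obtain ⟨i, rfl⟩ := Subgroup.mem_zpowers_iff.mp (show a ∈ Subgroup.zpowers x by rw [htop]; trivial)
      obtain ⟨j, rfl⟩ := Subgroup.mem_zpowers_iff.mp (show b ∈ Subgroup.zpowers x by rw [htop]; trivial)
      exact zpow_mul_comm x i j
    have hF : IsFrobeniusComplement M := by
      refine ⟨hM0, hM.1, fun g hg => ?_⟩
      have hN : Subgroup.normalizer (M : Set G) = M := by
        rcases (lt_or_eq_of_le (Subgroup.le_normalizer (H := M))) with e | e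
        · rcases (Subgroup.normalizer_eq_top_iff.mp (hM.2 _ e)).eq_bot_or_eq_top with e1 | e1
          · exact absurd e1 hM0
          · exact absurd e1 hM.1
        · exact e.symm
      refine inf_eq_bot h hM ((OrderIso.isCoatom_iff (MulAut.conj g).mapSubgroup M).mpr hM) fun e => hg ?_
      rw [← hN, Subgroup.mem_normalizer_iff]
      intro y
      conv_rhs => rw [e]
      change y ∈ M ↔ g * y * g⁻¹ ∈ MulAut.conj g • M
      rw [CfsgLib.FrobCompl.mem_conj_smul]
      simp [mul_assoc]
    obtain ⟨N, -, hNn, hNc⟩ := CfsgLib.FrobCompl.exists_kernel_complement hF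
    rcases hNn.eq_bot_or_eq_top with e | e
    · rw [e] at hNc
      exact hM.1 (Subgroup.eq_top_of_card_eq M (by simpa using hNc.card_mul))
    · rw [e] at hNc
      exact hM0 (Subgroup.eq_bot_of_card_eq M (Nat.eq_of_mul_eq_mul_left (Nat.card_pos (α := G))
        (by simpa using hNc.card_mul)))
  · obtain ⟨N, hNn, hNb, hNt⟩ : ∃ N : Subgroup G, N.Normal ∧ N ≠ ⊥ ∧ N ≠ ⊤ := by
      by_contra hc
      push Not at hc
      exact hsimple ⟨fun N hN => or_iff_not_imp_left.mpr fun h0 => hc N hN h0⟩
    haveI := hNn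
    obtain ⟨M, hM, hNM⟩ := (IsCoatomic.eq_top_or_exists_le_coatom N).resolve_left hNt
    haveI := h M hM
    haveI : Group.IsNilpotent (N.subgroupOf M) := Subgroup.isNilpotent _
    haveI : Group.IsNilpotent N := Group.nilpotent_of_mulEquiv (Subgroup.subgroupOfEquivOfLe hNM)
    have hq : Group.IsSolvable (G ⧸ N) := by
      refine IH (Nat.card (G ⧸ N)) ?_ (G ⧸ N) rfl fun K hK => ?_
      · subst hn
        rw [Subgroup.card_eq_card_quotient_mul_card_subgroup N]
        exact lt_mul_of_one_lt_right Nat.card_pos (N.one_lt_card_iff_ne_bot.mpr hNb)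
      · have hf := QuotientGroup.mk'_surjective N
        haveI := h _ (Subgroup.isCoatom_comap_of_surjective hf hK)
        haveI := Group.nilpotent_of_surjective _ ((QuotientGroup.mk' N).subgroupMap_surjective
          (K.comap (QuotientGroup.mk' N)))
        exact Group.nilpotent_of_mulEquiv (MulEquiv.subgroupCongr (Subgroup.map_comap_eq_self_of_surjective hf K))
    exact Group.isSolvable_of_ker_le_range N.subtype (QuotientGroup.mk' N) (by simp)

theorem isSolvable [Finite G] (h : ∀ M : Subgroup G, IsCoatom M → Group.IsNilpotent M) :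
    Group.IsSolvable G :=
  isSolvable_aux _ G rfl h

end CfsgLib.Schmidt
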