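import Mathlib

/-!
Covers of an irreducible cyclic module of prime order by `p`-groups with central kernel: the bound on
the kernel, and the covers attaining it.
-/

set_option autoImplicit false
set_option linter.style.haveILetI false

open scoped commutatorElement
open Polynomial

namespace CfsgLib.SchmidtCover

variable {p q a : ℕ} [hp : Fact p.Prime]
variable {F : Type*} [Field F] [Finite F] [Algebra (ZMod p) F] {ω : F}

/-- An element of order `q` in the field with `p ^ a` elements, `a` the order of `p` modulo `q`. -/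
structure RootData (p q a : ℕ) (F : Type*) [Field F] (ω : F) : Prop where
  hq : q.Prime
  hpq : p ≠ q
  ha : a = orderOf (p : ZMod q)
  hcard : Nat.card F = p ^ a
  hω : orderOf ω = q

theorem RootData.pos (h : RootData p q a F ω) : 0 < a := by
  rw [h.ha, orderOf_pos_iff]
  haveI := Fact.mk h.hq
  refine isOfFinOrder_iff_pow_eq_one.2 ⟨q - 1, Nat.sub_pos_of_lt h.hq.one_lt,
    ZMod.pow_card_sub_one_eq_one fun e => h.hpq ?_⟩
  rw [ZMod.natCast_eq_zero_iff] at e
  exact ((Nat.prime_dvd_prime_iff_eq h.hq hp.out).1 e).symm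

theorem RootData.finrank (h : RootData p q a F ω) : Module.finrank (ZMod p) F = a := by
  haveI : Module.Finite (ZMod p) F := Module.Finite.of_finite
  have h1 := Module.natCard_eq_pow_finrank (K := ZMod p) (V := F)
  rw [Nat.card_zmod, h.hcard] at h1
  exact (Nat.pow_right_injective hp.out.two_le h1).symm

theorem RootData.dvd_iff (h : RootData p q a F ω) (d : ℕ) : q ∣ p ^ d - 1 ↔ a ∣ d := by
  rw [h.ha, orderOf_dvd_iff_pow_eq_one, ← ZMod.natCast_eq_zero_iff,
    Nat.cast_sub (Nat.one_le_pow _ _ hp.out.pos), Nat.cast_pow, Nat.cast_one, sub_eq_zero]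

theorem RootData.pow_eq_self (h : RootData p q a F ω) (x : F) : x ^ p ^ a = x := by
  haveI := Fintype.ofFinite F
  rw [← h.hcard, Nat.card_eq_fintype_card, FiniteField.pow_card]

/-- Every element is a polynomial in an element of order `q`. -/
theorem RootData.aeval_surjective (h : RootData p q a F ω) : Function.Surjective (Polynomial.aeval ω : (ZMod p)[X] → F) := by
  haveI : Module.Finite (ZMod p) F := Module.Finite.of_finite
  set A := (Polynomial.aeval (R := ZMod p) ω).range with hA
  set E := IntermediateField.adjoin (ZMod p) ({ω} : Set F) with hE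
  have hd : Module.finrank (ZMod p) E = a := by
    refine le_antisymm (h.finrank ▸ Submodule.finrank_le E.toSubalgebra.toSubmodule) (Nat.le_of_dvd Module.finrank_pos ((h.dvd_iff _).1 ?_))
    have hω' : ω ∈ E := IntermediateField.subset_adjoin _ _ rfl
    haveI := Fintype.ofFinite E
    have h2 := FiniteField.pow_card_sub_one_eq_one (⟨ω, hω'⟩ : E) (fun e => by
      have h0 : ω = 0 := congrArg Subtype.val e
      have := h.hω
      rw [h0, orderOf_zero] at this
      exact h.hq.ne_zero this.symm)
    rw [← Nat.card_eq_fintype_card, Module.natCard_eq_pow_finrank (K := ZMod p), Nat.card_zmod] at h2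
    rw [← h.hω]
    exact orderOf_dvd_of_pow_eq_one (congrArg Subtype.val h2)
  have htop : E = ⊤ := IntermediateField.eq_of_le_of_finrank_eq le_top
    (by rw [hd, IntermediateField.finrank_top', h.finrank])
  intro x
  have hx : x ∈ E := htop ▸ IntermediateField.mem_top
  have hint : IsIntegral (ZMod p) ω := IsIntegral.of_finite _ _
  rw [hE, ← IntermediateField.mem_toSubalgebra, IntermediateField.adjoin_simple_toSubalgebra_of_isAlgebraic hint.isAlgebraic,
    Algebra.adjoin_singleton_eq_range_aeval] at hx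
  exact hx

theorem RootData.closure_pow (h : RootData p q a F ω) : AddSubgroup.closure (Set.range fun i : ℕ => ω ^ i) = ⊤ := by
  refine (AddSubgroup.eq_top_iff' _).2 fun x => ?_
  obtain ⟨f, rfl⟩ := h.aeval_surjective x
  induction f using Polynomial.induction_on' with
  | add f g hf hg => rw [map_add]; exact AddSubgroup.add_mem _ hf hg
  | monomial n c =>
    rw [Polynomial.aeval_monomial, ← Algebra.smul_def, ← ZMod.natCast_zmod_val c, Nat.cast_smul_eq_nsmul]
    exact AddSubgroup.nsmul_mem _ (AddSubgroup.subset_closure (Set.mem_range_self n)) _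

/-- A subgroup of the field stable under a nontrivial power of `ω` is trivial or everything. -/
theorem RootData.eq_top_of_stable (h : RootData p q a F ω) {k : ℕ} (hk : ω ^ k ≠ 1) (S : AddSubgroup F)
    (hS : ∀ x ∈ S, ω ^ k * x ∈ S) {x : F} (hx : x ∈ S) (hx0 : x ≠ 0) : S = ⊤ := by
  haveI := Fact.mk h.hq
  have hk' : orderOf (ω ^ k) = q := by
    refine orderOf_eq_prime ?_ hk
    rw [← pow_mul, mul_comm, pow_mul]; nth_rewrite 1 [← h.hω]; rw [pow_orderOf_eq_one, one_pow]
  have h' : RootData p q a F (ω ^ k) := ⟨h.hq, h.hpq, h.ha, h.hcard, hk'⟩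
  have hle : AddSubgroup.closure (Set.range fun i : ℕ => (ω ^ k) ^ i) ≤ S.comap (AddMonoidHom.mulRight x) := by
    rw [AddSubgroup.closure_le]
    rintro _ ⟨i, rfl⟩
    show (ω ^ k) ^ i * x ∈ S
    induction i with
    | zero => rwa [pow_zero, one_mul]
    | succ i ih => rw [pow_succ', mul_assoc]; exact hS _ ih
  rw [h'.closure_pow] at hle
  refine (AddSubgroup.eq_top_iff' _).2 fun y => ?_
  have := hle (AddSubgroup.mem_top (y * x⁻¹))
  have h2 : y * x⁻¹ * x ∈ S := this
  rwa [inv_mul_cancel_right₀ hx0] at h2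

/-- A cover of the module `F`, `θ` acting as multiplication by `ω`, with fixed central kernel. -/
structure Cover (p : ℕ) {F : Type*} [Field F] (ω : F) (D : Type*) [Group D] (θ : MulAut D)
    (π : D →* Multiplicative F) : Prop where
  pgrp : IsPGroup p D
  surj : Function.Surjective π
  equiv : ∀ d, (π (θ d)).toAdd = ω * (π d).toAdd
  central : π.ker ≤ Subgroup.center D
  fixed : ∀ d ∈ π.ker, θ d = d
  minimal : ∀ M : Subgroup D, (∀ d ∈ M, θ d ∈ M) → M.map π = ⊤ → M = ⊤

variable {D : Type*} [Group D] [Finite D] {θ : MulAut D} {π : D →* Multiplicative F}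

omit [Finite F] [Algebra (ZMod p) F] hp [Finite D] in
theorem Cover.apply_pow (h : Cover p ω D θ π) : ∀ (i : ℕ) (d : D), (π ((θ ^ i) d)).toAdd = ω ^ i * (π d).toAdd := by
  intro i
  induction i with
  | zero => intro d; simp
  | succ i ih => intro d; rw [pow_succ, MulAut.mul_apply, ih, h.equiv, pow_succ, mul_assoc]

omit [Finite F] in
/-- The kernel of a cover is the derived subgroup. -/
theorem Cover.ker_eq (hR : RootData p q a F ω) (h : Cover p ω D θ π) : π.ker = commutator D := by
  refine le_antisymm (fun k hk => ?_) (Abelianization.commutator_subset_ker π)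
  let of : D →* Abelianization D := Abelianization.of
  have hθq : ∀ x, (θ ^ q) x * x⁻¹ ∈ π.ker := fun x => by
    have h1 : π ((θ ^ q) x) = π x := by
      apply Multiplicative.toAdd.injective
      rw [h.apply_pow, ← hR.hω, pow_orderOf_eq_one, one_mul]
    rw [MonoidHom.mem_ker, map_mul, map_inv, h1, mul_inv_cancel]
  -- the norm to the abelianization
  let f : D →* Abelianization D := MonoidHom.mk' (fun x => ∏ i ∈ Finset.range q, of ((θ ^ i) x))
    fun x y => by simp only [map_mul, Finset.prod_mul_distrib]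
  have hfk : ∀ y ∈ π.ker, f y = of y ^ q := fun y hy => by
    show ∏ i ∈ Finset.range q, of ((θ ^ i) y) = _
    have : ∀ i : ℕ, (θ ^ i) y = y := by
      intro i
      induction i with
      | zero => rfl
      | succ i ih => rw [pow_succ, MulAut.mul_apply, h.fixed y hy, ih]
    simp only [this, Finset.prod_const, Finset.card_range]
  -- `θ y y⁻¹` for `y ∈ D` generate
  let M : Subgroup D := Subgroup.closure (Set.range fun y => θ y * y⁻¹)
  have hM : M = ⊤ := by
    refine h.minimal M (fun d hd => ?_) ?_
    · have hle : M ≤ M.comap θ.toMonoidHom := by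
        rw [Subgroup.closure_le]
        rintro _ ⟨y, rfl⟩
        exact Subgroup.subset_closure ⟨θ y, by simp⟩
      exact hle hd
    · refine (Subgroup.eq_top_iff' _).2 fun v => ?_
      have hω1 : ω - 1 ≠ 0 := sub_ne_zero.2 fun e => hR.hq.ne_one (by rw [← hR.hω, e, orderOf_one])
      obtain ⟨y, hy⟩ := h.surj (Multiplicative.ofAdd ((ω - 1)⁻¹ * v.toAdd))
      refine ⟨θ y * y⁻¹, Subgroup.subset_closure ⟨y, rfl⟩, ?_⟩
      apply Multiplicative.toAdd.injective
      rw [map_mul, map_inv, toAdd_mul, toAdd_inv, h.equiv, hy, toAdd_ofAdd, ← sub_eq_add_neg]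
      field_simp
  -- the norm is a power of its shift
  let g : D →* Abelianization D := MonoidHom.mk' (fun x => of ((θ ^ q) x * x⁻¹))
    fun x y => by simp only [map_mul, map_inv, mul_inv_rev]; rw [← mul_assoc, ← mul_assoc]; simp only [mul_comm, mul_left_comm, mul_assoc]
  have hfθ : ∀ x, f (θ x) = f x * g x := fun x => by
    show ∏ i ∈ Finset.range q, of ((θ ^ i) (θ x)) = (∏ i ∈ Finset.range q, of ((θ ^ i) x)) * of ((θ ^ q) x * x⁻¹)
    have e1 := Finset.prod_range_succ' (fun i => of ((θ ^ i) x)) q
    have e2 := Finset.prod_range_succ (fun i => of ((θ ^ i) x)) q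
    rw [e2] at e1
    simp only [pow_succ, MulAut.mul_apply, pow_zero, MulAut.one_apply] at e1
    rw [map_mul, map_inv, ← mul_assoc, e1, mul_inv_cancel_right]
  have hg1 : ∀ x, g x = 1 := by
    have hker : M ≤ g.ker := by
      rw [Subgroup.closure_le]
      rintro _ ⟨y, rfl⟩
      rw [SetLike.mem_coe, MonoidHom.mem_ker, map_mul, map_inv, mul_inv_eq_one]
      show of ((θ ^ q) (θ y) * (θ y)⁻¹) = of ((θ ^ q) y * y⁻¹)
      have := h.fixed _ (hθq y)
      rw [map_mul, map_inv, ← MulAut.mul_apply, ← pow_succ', pow_succ, MulAut.mul_apply] at this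
      rw [this]
    exact fun x => MonoidHom.mem_ker.1 (hker (hM ▸ Subgroup.mem_top x))
  have hf : f k = 1 := by
    have hker : M ≤ f.ker := by
      rw [Subgroup.closure_le]
      rintro _ ⟨y, rfl⟩
      rw [SetLike.mem_coe, MonoidHom.mem_ker, map_mul, map_inv, hfθ, hg1, mul_one, mul_inv_cancel]
    exact MonoidHom.mem_ker.1 (hker (hM ▸ Subgroup.mem_top k))
  rw [hfk k hk] at hf
  obtain ⟨n, hn⟩ := h.pgrp k
  have hcop : q.gcd (p ^ n) = 1 := Nat.Coprime.pow_right n ((Nat.coprime_primes hR.hq hp.out).2 (Ne.symm hR.hpq))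
  have h2 : of k ^ p ^ n = 1 := by rw [← map_pow, hn, map_one]
  have := pow_gcd_eq_one.2 ⟨hf, h2⟩
  rw [hcop, pow_one] at this
  rwa [← Abelianization.ker_of, MonoidHom.mem_ker]

omit hp [Finite F] [Algebra (ZMod p) F] [Finite D] in
/-- With central kernel, a commutator depends on the images only. -/
theorem commutator_congr (hπ : π.ker ≤ Subgroup.center D) {d d' e e' : D} (hd : π d = π d')
    (he : π e = π e') : ⁅d, e⁆ = ⁅d', e'⁆ := by
  have key : ∀ z ∈ π.ker, ∀ x y : D, ⁅x * z, y⁆ = ⁅x, y⁆ ∧ ⁅x, y * z⁆ = ⁅x, y⁆ := fun z hz x y => by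
    have hc := fun g => Subgroup.mem_center_iff.1 (hπ hz) g
    constructor
    · rw [commutatorElement_def, commutatorElement_def, mul_inv_rev,
        show x * z * y * (z⁻¹ * x⁻¹) * y⁻¹ = x * (z * y) * z⁻¹ * x⁻¹ * y⁻¹ by group, ← hc y]
      group
    · rw [commutatorElement_def, commutatorElement_def, mul_inv_rev,
        show x * (y * z) * x⁻¹ * (z⁻¹ * y⁻¹) = x * y * (z * x⁻¹) * z⁻¹ * y⁻¹ by group, ← hc x⁻¹]
      group
  have hmem : ∀ {u v : D}, π u = π v → u⁻¹ * v ∈ π.ker := fun e => by
    rw [MonoidHom.mem_ker, map_mul, map_inv, e, inv_mul_cancel]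
  calc ⁅d, e⁆ = ⁅d * (d⁻¹ * d'), e⁆ := ((key _ (hmem hd) _ _).1).symm
    _ = ⁅d', e⁆ := by rw [mul_inv_cancel_left]
    _ = ⁅d', e * (e⁻¹ * e')⁆ := ((key _ (hmem he) _ _).2).symm
    _ = ⁅d', e'⁆ := by rw [mul_inv_cancel_left]

omit hp [Finite F] [Algebra (ZMod p) F] [Finite D] in
theorem Cover.comm_eq (h : Cover p ω D θ π) {d d' e e' : D} (hd : π d = π d') (he : π e = π e') :
    ⁅d, e⁆ = ⁅d', e'⁆ := commutator_congr h.central hd he

omit hp [Finite F] [Algebra (ZMod p) F] [Finite D] in
/-- With central kernel made of commutators no proper subgroup covers the quotient. -/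
theorem eq_top_of_map_eq_top (hπ : π.ker ≤ Subgroup.center D) (hK : π.ker ≤ commutator D)
    (M : Subgroup D) (hM : M.map π = ⊤) : M = ⊤ := by
  have hlift : ∀ d, ∃ m ∈ M, π m = π d := fun d => (hM ▸ Subgroup.mem_top (π d) : π d ∈ M.map π)
  have hle : π.ker ≤ M := hK.trans <| Subgroup.commutator_le.2 fun d _ e _ => by
    obtain ⟨m, hm, hmd⟩ := hlift d
    obtain ⟨n, hn, hne⟩ := hlift e
    rw [← commutator_congr hπ hmd hne, commutatorElement_def]
    exact M.mul_mem (M.mul_mem (M.mul_mem hm hn) (M.inv_mem hm)) (M.inv_mem hn)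
  refine (Subgroup.eq_top_iff' _).2 fun d => ?_
  obtain ⟨m, hm, hmd⟩ := hlift d
  have : m⁻¹ * d ∈ M := hle (by rw [MonoidHom.mem_ker, map_mul, map_inv, hmd, inv_mul_cancel])
  have := M.mul_mem hm this
  rwa [mul_inv_cancel_left] at this

/-- The bound on the kernel of a cover. -/
theorem Cover.card_ker_le (hR : RootData p q a F ω) (h : Cover p ω D θ π) :
    Nat.card π.ker ≤ if a % 2 = 1 then 1 else p ^ (a / 2) := by
  classical
  have hKc : ∀ d e : D, ⁅d, e⁆ ∈ π.ker := fun d e => Abelianization.commutator_subset_ker π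
    (Subgroup.commutator_mem_commutator (Subgroup.mem_top d) (Subgroup.mem_top e))
  letI : CommGroup π.ker := { (inferInstance : Group π.ker) with
    mul_comm := fun u v => Subtype.ext (Subgroup.mem_center_iff.1 (h.central v.2) u) }
  obtain ⟨s, hs⟩ := h.surj.hasRightInverse
  let c : F → F → Additive π.ker := fun x y =>
    Additive.ofMul ⟨⁅s (Multiplicative.ofAdd x), s (Multiplicative.ofAdd y)⁆, hKc _ _⟩
  have hc : ∀ d e : D, c (π d).toAdd (π e).toAdd = Additive.ofMul ⟨⁅d, e⁆, hKc _ _⟩ := fun d e =>
    congrArg Additive.ofMul (Subtype.ext (h.comm_eq (hs _) (hs _)))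
  have hπ : ∀ x : F, ∃ d, (π d).toAdd = x := fun x => ⟨s (Multiplicative.ofAdd x), by rw [hs]; rfl⟩
  have hcl : ∀ x x' y, c (x + x') y = c x y + c x' y := fun x x' y => by
    obtain ⟨d, rfl⟩ := hπ x; obtain ⟨d', rfl⟩ := hπ x'; obtain ⟨e, rfl⟩ := hπ y
    rw [← toAdd_mul, ← map_mul, hc, hc, hc, ← ofMul_mul]
    refine congrArg Additive.ofMul (Subtype.ext ?_)
    show ⁅d * d', e⁆ = ⁅d, e⁆ * ⁅d', e⁆
    have hz := fun g => Subgroup.mem_center_iff.1 (h.central (hKc d' e)) g
    rw [show ⁅d * d', e⁆ = d * ⁅d', e⁆ * d⁻¹ * ⁅d, e⁆ by simp only [commutatorElement_def]; group,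
      hz d, mul_inv_cancel_right, hz]
  have hcr : ∀ x y y', c x (y + y') = c x y + c x y' := fun x y y' => by
    obtain ⟨d, rfl⟩ := hπ x; obtain ⟨e, rfl⟩ := hπ y; obtain ⟨e', rfl⟩ := hπ y'
    rw [← toAdd_mul, ← map_mul, hc, hc, hc, ← ofMul_mul]
    refine congrArg Additive.ofMul (Subtype.ext ?_)
    show ⁅d, e * e'⁆ = ⁅d, e⁆ * ⁅d, e'⁆
    have hz := fun g => Subgroup.mem_center_iff.1 (h.central (hKc d e')) g
    rw [show ⁅d, e * e'⁆ = ⁅d, e⁆ * (e * ⁅d, e'⁆ * e⁻¹) by simp only [commutatorElement_def]; group,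
      hz e, mul_inv_cancel_right]
  have hself : ∀ x, c x x = 0 := fun x => by
    obtain ⟨d, rfl⟩ := hπ x
    rw [hc]
    exact congrArg Additive.ofMul (Subtype.ext (show ⁅d, d⁆ = 1 by rw [commutatorElement_self]))
  have hinv : ∀ x y, c (ω * x) (ω * y) = c x y := fun x y => by
    obtain ⟨d, rfl⟩ := hπ x; obtain ⟨e, rfl⟩ := hπ y
    rw [← h.equiv, ← h.equiv, hc, hc]
    refine congrArg Additive.ofMul (Subtype.ext ?_)
    show ⁅θ d, θ e⁆ = ⁅d, e⁆
    rw [← h.fixed _ (hKc d e), map_commutatorElement]
  let g : F →+ Additive π.ker := AddMonoidHom.mk' (c 1) (hcr 1)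
  have hω0 : ω ≠ 0 := fun e => by
    have := hR.hω
    rw [e, orderOf_zero] at this
    exact hR.hq.ne_zero this.symm
  -- an additive `L` inverting the powers of `ω` computes `c`
  have key : ∀ L : F →+ F, (∀ i : ℕ, L (ω ^ i) = (ω⁻¹) ^ i) → ∀ x y, c x y = g (L x * y) := by
    intro L hL x y
    have e : AddMonoidHom.mk' (fun x => c x y) (fun u v => hcl u v y) =
        g.comp ((AddMonoidHom.mulRight y).comp L) := by
      refine AddMonoidHom.eq_of_eqOn_dense hR.closure_pow ?_
      rintro _ ⟨i, rfl⟩
      show c (ω ^ i) y = g (L (ω ^ i) * y)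
      rw [hL]
      have hit : ∀ (i : ℕ) (x y : F), c (ω ^ i * x) (ω ^ i * y) = c x y := by
        intro i
        induction i with
        | zero => simp
        | succ i ih => intro x y; rw [pow_succ, mul_assoc, mul_assoc, ih, hinv]
      show _ = c 1 _
      have := hit i 1 (ω⁻¹ ^ i * y)
      rw [mul_one, ← mul_assoc, ← mul_pow, mul_inv_cancel₀ hω0, one_pow, one_mul] at this
      exact this
    exact DFunLike.congr_fun e x
  -- commutators generate the kernel
  have hgen : (∀ x y, ∃ u, c x y = g u) → Nat.card π.ker ≤ Nat.card g.range := by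
    intro hcg
    refine Nat.card_le_card_of_injective (fun k => (⟨Additive.ofMul k, ?_⟩ : g.range)) fun k k' e =>
      Additive.ofMul.injective (congrArg Subtype.val e)
    let R : Subgroup D := ((AddSubgroup.toSubgroup' g.range : Subgroup π.ker)).map π.ker.subtype
    have hle : commutator D ≤ R := Subgroup.commutator_le.2 fun d _ e _ => by
      obtain ⟨u, hu⟩ := hcg (π d).toAdd (π e).toAdd
      rw [hc] at hu
      exact ⟨⟨⁅d, e⁆, hKc d e⟩, ⟨u, hu.symm⟩, rfl⟩
    obtain ⟨k', hk', e⟩ := hle ((h.ker_eq hR).le k.2)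
    rwa [← Subtype.ext e]
  have hqa : ω⁻¹ = ω → q = 2 := fun e => by
    have : ω ^ 2 = 1 := by rw [pow_two]; nth_rewrite 1 [← e]; exact inv_mul_cancel₀ hω0
    exact (Nat.prime_dvd_prime_iff_eq hR.hq Nat.prime_two).1 (hR.hω ▸ orderOf_dvd_of_pow_eq_one this)
  split_ifs with hodd
  · -- `a` odd: the kernel is trivial
    have hzero : ∀ x y, c x y = 0 := by
      by_cases hq2 : q = 2
      · have ha1 : a = 1 := by
          rw [hR.ha, orderOf_eq_one_iff]
          subst hq2
          rcases hp.out.eq_two_or_odd with e | e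
          · exact absurd e hR.hpq
          · rw [← ZMod.natCast_mod, e, Nat.cast_one]
        have hω1 : AddSubgroup.closure ({1} : Set F) = ⊤ := by
          haveI : Fintype F := Fintype.ofFinite F
          refine AddSubgroup.eq_top_of_card_eq _ ?_
          rw [← AddSubgroup.zmultiples_eq_closure, Nat.card_zmultiples]
          haveI : CharP F p := (Algebra.charP_iff (ZMod p) F p).1 inferInstance
          rw [hR.hcard, ha1, pow_one]
          exact CharP.eq F (CharP.addOrderOf_one F) ‹CharP F p›
        intro x y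
        have hg0 : g = 0 := AddMonoidHom.eq_of_eqOn_dense hω1 (by rintro _ rfl; exact hself 1)
        have e : AddMonoidHom.mk' (fun x => c x y) (fun u v => hcl u v y) = 0 :=
          AddMonoidHom.eq_of_eqOn_dense hω1 (by rintro _ rfl; exact DFunLike.congr_fun hg0 y)
        exact DFunLike.congr_fun e x
      · haveI : Module.Finite (ZMod p) F := Module.Finite.of_finite
        have hint : IsIntegral (ZMod p) ω := IsIntegral.of_finite _ _
        set f := minpoly (ZMod p) ω
        have hadj : ∀ (i : ℕ) (x y : F), c (ω ^ i * x) y = c x (ω⁻¹ ^ i * y) := by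
          intro i
          induction i with
          | zero => simp
          | succ i ih =>
            intro x y
            rw [pow_succ', mul_assoc]
            conv_lhs => rw [show y = ω * (ω⁻¹ * y) by rw [← mul_assoc, mul_inv_cancel₀ hω0, one_mul]]
            rw [hinv, ih, pow_succ, mul_assoc]
        have hne : Polynomial.aeval ω⁻¹ f ≠ 0 := by
          intro h0
          have hsplit := IntermediateField.adjoin.powerBasis hint
          obtain ⟨L, hL⟩ : ∃ L : Gal(F/ZMod p), L ω = ω⁻¹ := by
            obtain ⟨L, hL⟩ := Normal.minpoly_eq_iff_mem_orbit F |>.1 (show f = minpoly (ZMod p) ω⁻¹ from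
              minpoly.eq_of_irreducible_of_monic (minpoly.irreducible hint) h0 (minpoly.monic hint))
            exact ⟨L⁻¹, by show L.symm ω = ω⁻¹; rw [L.symm_apply_eq]; exact hL.symm⟩
          refine hq2 (hqa ?_)
          have h2 : L ^ 2 = 1 := by
            refine AlgEquiv.ext fun x => ?_
            obtain ⟨u, rfl⟩ := hR.aeval_surjective x
            rw [← Polynomial.aeval_algHom_apply, pow_two]
            simp [hL]
          haveI : IsGalois (ZMod p) F := inferInstance
          have hdvd : orderOf L ∣ a := by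
            rw [← hR.finrank, ← IsGalois.card_aut_eq_finrank]; exact orderOf_dvd_natCard L
          have hL1 : L = 1 := by
            rcases (Nat.dvd_prime Nat.prime_two).1 (orderOf_dvd_of_pow_eq_one h2) with e | e
            · exact orderOf_eq_one_iff.1 e
            · rw [e] at hdvd; omega
          rw [← hL, hL1]; rfl
        have hkey : ∀ x y, c x (Polynomial.aeval ω⁻¹ f * y) = 0 := by
          intro x y
          have e : ∀ P : (ZMod p)[X], c (Polynomial.aeval ω P * x) y = c x (Polynomial.aeval ω⁻¹ P * y) := by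
            intro P
            induction P using Polynomial.induction_on' with
            | add f g hf hg => rw [map_add, map_add, add_mul, add_mul, hcl, hcr, hf, hg]
            | monomial n r =>
              rw [Polynomial.aeval_monomial, Polynomial.aeval_monomial, ← Algebra.smul_def, ← Algebra.smul_def,
                ← ZMod.natCast_zmod_val r, Nat.cast_smul_eq_nsmul, Nat.cast_smul_eq_nsmul, smul_mul_assoc,
                smul_mul_assoc]
              exact (map_nsmul (AddMonoidHom.mk' (fun u => c u y) fun u v => hcl u v y) r.val _).trans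
                ((congrArg (r.val • ·) (hadj n x y)).trans
                  (map_nsmul (AddMonoidHom.mk' (c x) (hcr x)) r.val _).symm)
          rw [← e, minpoly.aeval, zero_mul]
          exact (AddMonoidHom.mk' (fun u => c u y) fun u v => hcl u v y).map_zero
        intro x y
        have := hkey x ((Polynomial.aeval ω⁻¹ f)⁻¹ * y)
        rwa [← mul_assoc, mul_inv_cancel₀ hne, one_mul] at this
    refine (hgen fun x y => ⟨0, by rw [hzero, map_zero]⟩).trans ?_
    have hg0 : g = 0 := AddMonoidHom.ext fun u => hzero 1 u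
    rw [hg0, AddMonoidHom.range_zero, AddSubgroup.card_bot]
  · -- `a = 2 h`
    haveI := Fact.mk hR.hq
    set m := a / 2 with hm
    have ha2 : a = 2 * m := by omega
    have hneg : (p : ZMod q) ^ m = -1 := by
      have h1 : (p : ZMod q) ^ a = 1 := by rw [hR.ha]; exact pow_orderOf_eq_one _
      rw [ha2, mul_comm, pow_mul, sq_eq_one_iff] at h1
      refine h1.resolve_left fun e => ?_
      have := Nat.le_of_dvd (by have := hR.pos; omega) (hR.ha ▸ orderOf_dvd_of_pow_eq_one e : a ∣ m)
      have := hR.pos
      omega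
    have hωp : ω ^ p ^ m = ω⁻¹ := by
      refine eq_inv_of_mul_eq_one_left ?_
      rw [← pow_succ, ← orderOf_dvd_iff_pow_eq_one, hR.hω, ← ZMod.natCast_eq_zero_iff,
        Nat.cast_add, Nat.cast_pow, hneg, Nat.cast_one, neg_add_cancel]
    haveI : CharP F p := (Algebra.charP_iff (ZMod p) F p).1 inferInstance
    let L : F →+ F := (iterateFrobenius F p m).toAddMonoidHom
    have hLx : ∀ x, L x = x ^ p ^ m := fun x => iterateFrobenius_def (R := F) p m x
    have hk := key L fun i => by rw [hLx, ← pow_mul, mul_comm, pow_mul, hωp]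
    refine (hgen fun x y => ⟨_, hk x y⟩).trans ?_
    -- norms are killed
    have hN : ∀ x, g (x ^ (p ^ m + 1)) = 0 := fun x => by rw [pow_succ, ← hLx, ← hk, hself]
    have hpm := Nat.one_le_pow m p hp.out.pos
    have hker : p ^ m ≤ Nat.card g.ker := by
      haveI := Fintype.ofFinite F
      let N : Fˣ →* Fˣ := powMonoidHom (p ^ m + 1)
      have hcard : Nat.card N.range = p ^ m - 1 := by
        have h1 := Subgroup.card_mul_index N.ker
        rw [Subgroup.index_ker, Nat.card_units, hR.hcard] at h1
        have h2 : Nat.card N.ker = p ^ m + 1 := by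
          rw [IsCyclic.card_powMonoidHom_ker, Nat.card_units, hR.hcard, ha2, mul_comm, pow_mul,
            show (p ^ m) ^ 2 - 1 = (p ^ m + 1) * (p ^ m - 1) by rw [← Nat.sq_sub_sq, one_pow]]
          exact Nat.gcd_eq_right (dvd_mul_right _ _)
        rw [h2, ha2, mul_comm 2, pow_mul, show (p ^ m) ^ 2 - 1 = (p ^ m + 1) * (p ^ m - 1) by
          rw [← Nat.sq_sub_sq, one_pow]] at h1
        exact Nat.eq_of_mul_eq_mul_left (Nat.succ_pos _) h1
      let e : Option N.range → g.ker := fun o => Option.rec 0
        (fun u => ⟨((u : Fˣ) : F), by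
          obtain ⟨v, hv⟩ := u.2
          rw [AddMonoidHom.mem_ker, ← hv]
          exact hN _⟩) o
      have he : Function.Injective e := by
        rintro (_ | u) (_ | v) h'
        · rfl
        · exact absurd (congrArg Subtype.val h').symm (Units.ne_zero _)
        · exact absurd (congrArg Subtype.val h') (Units.ne_zero _)
        · exact congrArg some (Subtype.ext (Units.ext (congrArg Subtype.val h')))
      refine le_trans ?_ (Nat.card_le_card_of_injective e he)
      rw [Finite.card_option, hcard]
      omega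
    have h1 := AddSubgroup.card_mul_index g.ker
    rw [AddSubgroup.index_ker, hR.hcard, ha2, two_mul, pow_add] at h1
    exact Nat.le_of_mul_le_mul_left (by rw [← h1]; exact Nat.mul_le_mul_right _ hker) (by positivity)

end CfsgLib.SchmidtCover
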