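import Mathlib
import Cfsg.Agent.Lib.Transfer.Basic
import Cfsg.Agent.Lib.Schmidt.CoverBound

/-!
Covers attaining the kernel bound, and the minimal non-`p`-nilpotent groups built from a cover.
-/

set_option autoImplicit false
set_option linter.style.haveILetI false

open scoped commutatorElement

namespace CfsgLib.SchmidtCover

universe v

section Herm

variable {F : Type v} [CommRing F] (σ : {σ : F →+* F // ∀ x, σ (σ x) = x})

/-- The Heisenberg group of a ring with involution. -/
@[ext]
structure Herm where
  x : F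
  z : F
  rel : z + σ.1 z + x * σ.1 x = 0

namespace Herm

variable {σ}

instance : Group (Herm σ) where
  mul u w := ⟨u.x + w.x, u.z + w.z - σ.1 u.x * w.x, by
    simp only [map_add, map_sub, map_mul, σ.2]
    linear_combination u.rel + w.rel⟩
  one := ⟨0, 0, by simp⟩
  inv u := ⟨-u.x, -u.z - σ.1 u.x * u.x, by
    simp only [map_sub, map_neg, map_mul, σ.2]
    linear_combination -u.rel⟩
  mul_assoc u w t := Herm.ext (add_assoc _ _ _) (by
    show u.z + w.z - σ.1 u.x * w.x + t.z - σ.1 (u.x + w.x) * t.x =
      u.z + (w.z + t.z - σ.1 w.x * t.x) - σ.1 u.x * (w.x + t.x)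
    rw [map_add]; ring)
  one_mul u := Herm.ext (zero_add _) (by
    show 0 + u.z - σ.1 0 * u.x = u.z
    rw [map_zero]; ring)
  mul_one u := Herm.ext (add_zero _) (by
    show u.z + 0 - σ.1 u.x * 0 = u.z
    ring)
  inv_mul_cancel u := Herm.ext (neg_add_cancel _) (by
    show -u.z - σ.1 u.x * u.x + u.z - σ.1 (-u.x) * u.x = 0
    rw [map_neg]; ring)

theorem mul_x (u w : Herm σ) : (u * w).x = u.x + w.x := rfl
theorem mul_z (u w : Herm σ) : (u * w).z = u.z + w.z - σ.1 u.x * w.x := rfl
theorem inv_x (u : Herm σ) : (u⁻¹).x = -u.x := rfl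
theorem inv_z (u : Herm σ) : (u⁻¹).z = -u.z - σ.1 u.x * u.x := rfl
theorem one_x : (1 : Herm σ).x = 0 := rfl

instance [Finite F] : Finite (Herm σ) :=
  Finite.of_injective (fun u => (u.x, u.z)) fun _ _ e =>
    Herm.ext (congrArg Prod.fst e) (congrArg Prod.snd e)

/-- The projection onto the ring. -/
def proj : Herm σ →* Multiplicative F where
  toFun u := Multiplicative.ofAdd u.x
  map_one' := rfl
  map_mul' _ _ := rfl

/-- Scaling by an element of norm one. -/
def scale (t t' : F) (ht : t * σ.1 t = 1) (ht' : t * t' = 1) : MulAut (Herm σ) where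
  toFun u := ⟨t * u.x, u.z, by rw [map_mul]; linear_combination u.rel + u.x * σ.1 u.x * ht⟩
  invFun u := ⟨t' * u.x, u.z, by
    have ht'' : t' * σ.1 t' = 1 := by
      have h2 := congrArg σ.1 ht'
      rw [map_mul, map_one] at h2
      linear_combination (-(t' * σ.1 t')) * ht + (t * t') * 0 + (σ.1 t * σ.1 t') * ht' + h2
    rw [map_mul]; linear_combination u.rel + u.x * σ.1 u.x * ht''⟩
  left_inv u := Herm.ext (by show t' * (t * u.x) = u.x; linear_combination u.x * ht') rfl
  right_inv u := Herm.ext (by show t * (t' * u.x) = u.x; linear_combination u.x * ht') rfl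
  map_mul' u w := Herm.ext (mul_add _ _ _) (by
    show u.z + w.z - σ.1 u.x * w.x = u.z + w.z - σ.1 (t * u.x) * (t * w.x)
    rw [map_mul]; linear_combination σ.1 u.x * w.x * ht)

theorem scale_pow_x (t t' : F) (ht : t * σ.1 t = 1) (ht' : t * t' = 1) :
    ∀ (i : ℕ) (u : Herm σ), ((scale t t' ht ht' ^ i) u).x = t ^ i * u.x ∧
      ((scale t t' ht ht' ^ i) u).z = u.z := by
  intro i
  induction i with
  | zero => intro u; simp
  | succ i ih =>
    intro u
    rw [pow_succ, MulAut.mul_apply]
    obtain ⟨h1, h2⟩ := ih (scale t t' ht ht' u)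
    exact ⟨h1.trans (by show t ^ i * (t * u.x) = _; ring), h2⟩

end Herm

end Herm

variable {p q a : ℕ} [hp : Fact p.Prime]
variable {F : Type v} [Field F] [Finite F] [Algebra (ZMod p) F] {ω : F}

omit hp [Algebra (ZMod p) F] in
theorem card_pow_eq_le (n : ℕ) (hn : 1 < n) (c : F) : Nat.card {x : F | x ^ n = c * x} ≤ n := by
  classical
  let P : Polynomial F := Polynomial.X ^ n - Polynomial.C c * Polynomial.X
  have hdeg : P.natDegree ≤ n := by
    refine (Polynomial.natDegree_sub_le _ _).trans (max_le (Polynomial.natDegree_X_pow_le _) ?_)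
    exact (Polynomial.natDegree_C_mul_le _ _).trans (Polynomial.natDegree_X_le.trans hn.le)
  have hP : P ≠ 0 := by
    intro h0
    have := congrArg (Polynomial.coeff · n) h0
    simp [P, Polynomial.coeff_X, show 1 ≠ n by omega] at this
  have hsub : {x : F | x ^ n = c * x} ⊆ ↑P.roots.toFinset := fun x hx => by
    rw [Finset.mem_coe, Multiset.mem_toFinset, Polynomial.mem_roots hP]
    simp only [Polynomial.IsRoot.def, P, Polynomial.eval_sub, Polynomial.eval_pow, Polynomial.eval_X,
      Polynomial.eval_mul, Polynomial.eval_C]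
    exact sub_eq_zero.2 hx
  refine (Nat.card_mono (Finset.finite_toSet _) hsub).trans ?_
  rw [Nat.card_coe_set_eq, Set.ncard_coe_finset]
  exact (Multiset.toFinset_card_le _).trans ((Polynomial.card_roots' _).trans hdeg)

/-- Covers attaining the bound exist. -/
theorem exists_cover (hR : RootData p q a F ω) :
    ∃ (D : Type v) (_ : Group D) (_ : Finite D) (θ : MulAut D) (π : D →* Multiplicative F),
      Cover p ω D θ π ∧ θ ^ q = 1 ∧
        Nat.card D = p ^ a * (if a % 2 = 1 then 1 else p ^ (a / 2)) := by
  have hωq : ω ^ q = 1 := by rw [← hR.hω]; exact pow_orderOf_eq_one _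
  have hω' : ω * ω ^ (q - 1) = 1 := by
    rw [← pow_succ', Nat.sub_add_cancel hR.hq.one_le, hωq]
  split_ifs with hodd
  · let θ₀ : F ≃+ F := {
      toFun := (ω * ·), invFun := (ω ^ (q - 1) * ·)
      left_inv := fun x => by simp only; rw [← mul_assoc, mul_comm _ ω, hω', one_mul]
      right_inv := fun x => by simp only; rw [← mul_assoc, hω', one_mul]
      map_add' := mul_add ω }
    let θ : MulAut (Multiplicative F) := AddEquiv.toMultiplicative θ₀
    have hit : ∀ (i : ℕ) (d : Multiplicative F), ((θ ^ i) d).toAdd = ω ^ i * d.toAdd := by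
      intro i
      induction i with
      | zero => intro d; simp
      | succ i ih =>
        intro d
        rw [pow_succ, MulAut.mul_apply, ih]
        show ω ^ i * (ω * d.toAdd) = _
        ring
    have hker : (MonoidHom.id (Multiplicative F)).ker = ⊥ := by ext; simp
    refine ⟨Multiplicative F, inferInstance, inferInstance, θ, MonoidHom.id _,
      ⟨IsPGroup.of_card (n := a) hR.hcard, fun d => ⟨d, rfl⟩, fun _ => rfl,
        by rw [hker]; exact bot_le, fun d hd => ?_, fun M _ hM => by rwa [Subgroup.map_id] at hM⟩,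
      MulEquiv.ext fun d => Multiplicative.toAdd.injective ?_, ?_⟩
    · rw [hker, Subgroup.mem_bot] at hd; rw [hd, map_one]
    · rw [hit, hωq, one_mul]; rfl
    · rw [mul_one]; exact hR.hcard
  · haveI := Fact.mk hR.hq
    haveI : CharP F p := (Algebra.charP_iff (ZMod p) F p).1 inferInstance
    set m := a / 2 with hm
    have ha2 : a = m + m := by omega
    have hm0 : 0 < m := by have := hR.pos; omega
    have hpm : 1 < p ^ m := Nat.one_lt_pow hm0.ne' hp.out.one_lt
    let f : F →+* F := iterateFrobenius F p m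
    have hf : ∀ x, f x = x ^ p ^ m := fun x => iterateFrobenius_def (R := F) p m x
    have hff : ∀ x, f (f x) = x := fun x => by
      rw [hf, hf, ← pow_mul, ← pow_add, ← ha2, hR.pow_eq_self]
    let σ : {σ : F →+* F // ∀ x, σ (σ x) = x} := ⟨f, hff⟩
    have hωf : ω * f ω = 1 := by
      have hneg : (p : ZMod q) ^ m = -1 := by
        have h1 : (p : ZMod q) ^ a = 1 := by rw [hR.ha]; exact pow_orderOf_eq_one _
        rw [show a = m * 2 by omega, pow_mul, sq_eq_one_iff] at h1
        refine h1.resolve_left fun e => ?_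
        have := Nat.le_of_dvd hm0 (hR.ha ▸ orderOf_dvd_of_pow_eq_one e : a ∣ m)
        omega
      rw [hf, ← pow_succ', ← orderOf_dvd_iff_pow_eq_one, hR.hω, ← ZMod.natCast_eq_zero_iff,
        Nat.cast_add, Nat.cast_pow, hneg, Nat.cast_one, neg_add_cancel]
    -- the trace and the skew part
    let T : F →+ F := AddMonoidHom.id F + f.toAddMonoidHom
    have hT : ∀ z, T z = z + f z := fun _ => rfl
    let U : F →+ F := AddMonoidHom.id F - f.toAddMonoidHom
    have hU : ∀ z, U z = z - f z := fun _ => rfl
    have hTker : Nat.card T.ker ≤ p ^ m := by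
      refine le_trans ?_ (card_pow_eq_le (p ^ m) hpm (-1 : F))
      refine Nat.card_le_card_of_injective (fun z => ⟨z.1, ?_⟩) fun z w e => Subtype.ext (congrArg Subtype.val e :)
      show (z : F) ^ p ^ m = -1 * z
      rw [← hf]
      linear_combination (hT z).symm.trans z.2
    have hUker : Nat.card U.ker ≤ p ^ m := by
      refine le_trans ?_ (card_pow_eq_le (p ^ m) hpm (1 : F))
      refine Nat.card_le_card_of_injective (fun z => ⟨z.1, ?_⟩) fun z w e => Subtype.ext (congrArg Subtype.val e :)
      show (z : F) ^ p ^ m = 1 * z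
      rw [← hf]
      linear_combination -((hU z).symm.trans z.2)
    have hTr : T.range ≤ U.ker := by
      rintro _ ⟨z, rfl⟩
      rw [AddMonoidHom.mem_ker, hU, hT, map_add, hff]; ring
    have hUr : U.range ≤ T.ker := by
      rintro _ ⟨z, rfl⟩
      rw [AddMonoidHom.mem_ker, hT, hU, map_sub, hff]; ring
    have hsq : Nat.card F = p ^ m * p ^ m := by rw [hR.hcard, ha2, pow_add]
    have hT2 : Nat.card T.ker = p ^ m ∧ T.range = U.ker := by
      have h1 := T.ker.card_mul_index
      rw [AddSubgroup.index_ker, hsq] at h1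
      have h2 := (Nat.card_le_card_of_injective _ (AddSubgroup.inclusion_injective hTr)).trans hUker
      refine ⟨le_antisymm hTker ?_, AddSubgroup.eq_of_le_of_card_ge hTr (hUker.trans ?_)⟩
      · exact Nat.le_of_mul_le_mul_right (h1 ▸ Nat.mul_le_mul_left _ h2) (Nat.zero_lt_of_lt hpm)
      · exact Nat.le_of_mul_le_mul_left (h1 ▸ Nat.mul_le_mul_right _ hTker) (Nat.zero_lt_of_lt hpm)
    have hU2 : U.range = T.ker := by
      have h1 := U.ker.card_mul_index
      rw [AddSubgroup.index_ker, hsq] at h1
      refine AddSubgroup.eq_of_le_of_card_ge hUr (hT2.1.trans_le ?_)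
      exact Nat.le_of_mul_le_mul_left (h1 ▸ Nat.mul_le_mul_right _ hUker) (Nat.zero_lt_of_lt hpm)
    let π : Herm σ →* Multiplicative F := Herm.proj
    have hπsurj : Function.Surjective π := fun v => by
      have : -(v.toAdd * f v.toAdd) ∈ T.range := by
        rw [hT2.2, AddMonoidHom.mem_ker, hU, map_neg, map_mul, hff]; ring
      obtain ⟨z, hz⟩ := this
      rw [hT] at hz
      exact ⟨⟨v.toAdd, z, show z + f z + v.toAdd * f v.toAdd = 0 by linear_combination hz⟩, rfl⟩
    have hkerx : ∀ {u : Herm σ}, u ∈ π.ker → u.x = 0 := fun hu => hu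
    let e : π.ker ≃ T.ker :=
      { toFun := fun u => ⟨u.1.z, by
          rw [AddMonoidHom.mem_ker, hT]
          have := u.1.rel
          rw [hkerx u.2] at this
          simpa using this⟩
        invFun := fun z => ⟨⟨0, z.1, by
          show (z : F) + f z + 0 * f 0 = 0
          rw [zero_mul, add_zero]
          exact (hT _).symm.trans z.2⟩, rfl⟩
        left_inv := fun u => Subtype.ext (Herm.ext (hkerx u.2).symm rfl)
        right_inv := fun z => rfl }
    have hcard : Nat.card (Herm σ) = p ^ a * p ^ m := by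
      rw [← Subgroup.card_mul_index π.ker, Subgroup.index_ker, MonoidHom.range_eq_top.2 hπsurj,
        Subgroup.card_top, Nat.card_congr e, hT2.1, mul_comm]
      exact congrArg (· * p ^ m) hR.hcard
    have hcentral : π.ker ≤ Subgroup.center (Herm σ) := fun u hu => Subgroup.mem_center_iff.2 fun w => by
      ext
      · rw [Herm.mul_x, Herm.mul_x, add_comm]
      · rw [Herm.mul_z, Herm.mul_z, hkerx hu, mul_zero, map_zero, zero_mul]; ring
    have hcomm : π.ker ≤ commutator (Herm σ) := by
      intro u hu
      have hz : u.z ∈ U.range := hU2 ▸ (e ⟨u, hu⟩).2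
      obtain ⟨x, hx⟩ := hz
      obtain ⟨v, hv⟩ := hπsurj (Multiplicative.ofAdd x)
      obtain ⟨w, hw⟩ := hπsurj (Multiplicative.ofAdd 1)
      have hvx : v.x = x := congrArg Multiplicative.toAdd hv
      have hwx : w.x = 1 := congrArg Multiplicative.toAdd hw
      have : ⁅v, w⁆ = u := by
        rw [commutatorElement_def, mul_inv_eq_iff_eq_mul, mul_inv_eq_iff_eq_mul]
        ext
        · simp only [Herm.mul_x, hkerx hu]; ring
        · simp only [Herm.mul_z, Herm.mul_x, hkerx hu, hvx, hwx, zero_add, map_zero, map_one, zero_mul, sub_zero,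
            mul_one, one_mul]
          linear_combination ((hU x).symm.trans hx)
      exact this ▸ Subgroup.commutator_mem_commutator (Subgroup.mem_top v) (Subgroup.mem_top w)
    refine ⟨Herm σ, inferInstance, inferInstance, Herm.scale ω (ω ^ (q - 1)) hωf hω', π,
      ⟨IsPGroup.of_card (n := a + m) (by rw [hcard, pow_add]), hπsurj, fun _ => rfl, hcentral,
        fun u hu => Herm.ext ?_ rfl, fun M _ hM => eq_top_of_map_eq_top hcentral hcomm M hM⟩, ?_, hcard⟩
    · show ω * u.x = u.x
      rw [hkerx hu, mul_zero]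
    · refine MulEquiv.ext fun u => ?_
      obtain ⟨h1, h2⟩ := Herm.scale_pow_x ω (ω ^ (q - 1)) hωf hω' q u
      exact Herm.ext (by rw [h1, hωq, one_mul]; rfl) h2

variable {D : Type*} [Group D] [Finite D] {θ : MulAut D} {π : D →* Multiplicative F}

/-- No proper subgroup maps onto the quotient of a cover. -/
theorem Cover.eq_top_of_map (hR : RootData p q a F ω) (h : Cover p ω D θ π) (M : Subgroup D)
    (hM : M.map π = ⊤) : M = ⊤ :=
  eq_top_of_map_eq_top h.central (h.ker_eq hR).le M hM

omit [Finite D] hp [Finite F] [Algebra (ZMod p) F] in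
/-- The cyclic action through `θ`. -/
theorem exists_act {n : ℕ} [NeZero n] (hθ : θ ^ n = 1) :
    ∃ φ : Multiplicative (ZMod n) →* MulAut D, ∀ c, φ c = θ ^ c.toAdd.val :=
  ⟨MonoidHom.mk' (fun c => θ ^ c.toAdd.val) fun c c' => by
    rw [toAdd_mul, ZMod.val_add, ← pow_eq_pow_mod _ hθ, pow_add], fun _ => rfl⟩

/-- The semidirect product of a cover by a cyclic `q`-group is minimal non-`p`-nilpotent. -/
theorem minimal_nonnilpotent (hR : RootData p q a F ω) (h : Cover p ω D θ π) (hθq : θ ^ q = 1)
    {r n : ℕ} (hr : 1 ≤ r) (hn : n = q ^ r) [NeZero n] (φ : Multiplicative (ZMod n) →* MulAut D)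
    (hφ : ∀ c, φ c = θ ^ c.toAdd.val) :
    ¬ Cfsg.HasNormalPComplement p (D ⋊[φ] Multiplicative (ZMod n)) ∧
      ∀ K : Subgroup (D ⋊[φ] Multiplicative (ZMod n)), K ≠ ⊤ →
        Cfsg.HasNormalPComplement p K := by
  haveI := Fact.mk hR.hq
  have hnp : n.Coprime p :=
    hn ▸ Nat.Coprime.pow_left r ((Nat.coprime_primes hR.hq hp.out).2 (Ne.symm hR.hpq))
  have h1n : 1 < n := hn ▸ Nat.one_lt_pow (by omega) hR.hq.one_lt
  haveI := Fact.mk h1n
  haveI : Finite (D ⋊[φ] Multiplicative (ZMod n)) :=
    Finite.of_injective (fun g => (g.left, g.right)) fun _ _ e =>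
      SemidirectProduct.ext (congrArg Prod.fst e) (congrArg Prod.snd e)
  have hcn : ∀ c : Multiplicative (ZMod n), c ^ n = 1 := fun c => by
    apply Multiplicative.toAdd.injective
    rw [toAdd_pow, toAdd_one, nsmul_eq_mul, ZMod.natCast_self, zero_mul]
  have hd1 : ∀ d : D, d ^ n = 1 → d = 1 := fun d hd => by
    obtain ⟨k, hk⟩ := h.pgrp d
    rw [← orderOf_eq_one_iff]
    exact Nat.eq_one_of_dvd_coprimes (hnp.pow_right k) (orderOf_dvd_of_pow_eq_one hd)
      (orderOf_dvd_of_pow_eq_one hk)
  have hω1 : ω ≠ 1 := fun e => hR.hq.ne_one (by rw [← hR.hω, e, orderOf_one])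
  refine ⟨fun hN => ?_, fun K hK => ?_⟩
  · have hN' := CfsgLib.Transfer.hasNormalPComplement_iff_pResidual.1 hN
    set N := Cfsg.pResidual p (D ⋊[φ] Multiplicative (ZMod n))
    haveI : N.Normal := CfsgLib.Transfer.pResidual_normal _ _
    set c : Multiplicative (ZMod n) := Multiplicative.ofAdd 1
    have hc : (SemidirectProduct.inr c : D ⋊[φ] Multiplicative (ZMod n)) ∈ N := by
      refine CfsgLib.Transfer.mem_pResidual_of_coprime (Nat.Coprime.coprime_dvd_left ?_ hnp)
      exact orderOf_dvd_of_pow_eq_one (by rw [← map_pow, hcn, map_one])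
    obtain ⟨d, hd⟩ := h.surj (Multiplicative.ofAdd 1)
    have h1 : (SemidirectProduct.inl (d * (θ d)⁻¹) : D ⋊[φ] Multiplicative (ZMod n)) ∈ N := by
      have hφc : φ c = θ := by
        rw [hφ, show c.toAdd = 1 from rfl, ZMod.val_one, pow_one]
      have h2 := N.mul_mem (Subgroup.Normal.conj_mem ‹N.Normal› _ hc (SemidirectProduct.inl d))
        (N.inv_mem hc)
      convert h2 using 1
      ext <;> simp [hφc]
    have h3 : d * (θ d)⁻¹ = 1 := by
      by_contra hne
      obtain ⟨k, hk⟩ := IsPGroup.iff_orderOf.1 h.pgrp (d * (θ d)⁻¹)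
      refine hN' (dvd_trans ?_ (Subgroup.orderOf_dvd_natCard _ h1))
      rw [orderOf_injective _ SemidirectProduct.inl_injective, hk]
      refine dvd_pow_self p fun e => hne ?_
      rw [← orderOf_eq_one_iff, hk, e, pow_zero]
    have h4 := h.equiv d
    rw [← mul_inv_eq_one.1 h3, hd, toAdd_ofAdd, mul_one] at h4
    exact hω1 h4.symm
  · have build : (∀ u v : K, u ^ n = 1 → v ^ n = 1 → (u * v) ^ n = 1) →
        Cfsg.HasNormalPComplement p K := by
      intro hclosed
      let N : Subgroup K :=
        { carrier := {u | u ^ n = 1}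
          one_mem' := one_pow n
          mul_mem' := fun {u v} hu hv => hclosed u v hu hv
          inv_mem' := fun {u} hu => by
            show u⁻¹ ^ n = 1
            rw [inv_pow, show u ^ n = 1 from hu, inv_one] }
      haveI : N.Normal := ⟨fun u hu g => by
        show (g * u * g⁻¹) ^ n = 1
        rw [conj_pow, show u ^ n = 1 from hu, mul_one, mul_inv_cancel]⟩
      refine CfsgLib.Transfer.hasNormalPComplement_of_le_of_isPGroup_quotient N ?_ ?_
      · have hN : IsPGroup q N := fun u => ⟨r, Subtype.ext (hn ▸ u.2)⟩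
        obtain ⟨j, hj⟩ := hN.exists_card_eq
        rw [hj]
        exact Nat.Coprime.pow_left _ ((Nat.coprime_primes hR.hq hp.out).2 (Ne.symm hR.hpq))
      · intro g
        obtain ⟨g, rfl⟩ := QuotientGroup.mk_surjective g
        have hr1 : ((g : D ⋊[φ] Multiplicative (ZMod n)) ^ n).right = 1 := by
          rw [← SemidirectProduct.rightHom_eq_right, map_pow]; exact hcn _
        obtain ⟨k, hk⟩ := h.pgrp ((g : D ⋊[φ] Multiplicative (ZMod n)) ^ n).left
        refine ⟨k, ?_⟩
        rw [← QuotientGroup.mk_pow, QuotientGroup.eq_one_iff]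
        show (g ^ p ^ k) ^ n = 1
        apply Subtype.ext
        rw [← pow_mul, mul_comm, pow_mul, SubgroupClass.coe_pow, SubgroupClass.coe_pow,
          ← SemidirectProduct.inl_left_mul_inr_right ((g : D ⋊[φ] Multiplicative (ZMod n)) ^ n), hr1,
          map_one, mul_one, ← map_pow, hk, map_one]
        rfl
    by_cases hA : ∀ g ∈ K, q ∣ g.right.toAdd.val
    · refine build fun u v hu hv => ?_
      have key : ∀ w : K, w ^ n = 1 →
          (w : D ⋊[φ] Multiplicative (ZMod n)) = SemidirectProduct.inr (w : D ⋊[φ] Multiplicative (ZMod n)).right := by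
        intro w hw
        set g : D ⋊[φ] Multiplicative (ZMod n) := (w : D ⋊[φ] Multiplicative (ZMod n))
        have hφg : φ g.right = 1 := by
          obtain ⟨k, hk⟩ := hA g w.2
          rw [hφ, hk, pow_mul, hθq, one_pow]
        have hc : Commute (SemidirectProduct.inl g.left) (SemidirectProduct.inr g.right : D ⋊[φ] _) := by
          ext <;> simp [hφg]
        have hgn : g ^ n = 1 := congrArg Subtype.val hw
        rw [← SemidirectProduct.inl_left_mul_inr_right g, hc.mul_pow, ← map_pow, ← map_pow, hcn,
          map_one, mul_one] at hgn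
        have hl := hd1 _ (SemidirectProduct.inl_injective (hgn.trans (map_one _).symm))
        conv_lhs => rw [← SemidirectProduct.inl_left_mul_inr_right g, hl, map_one, one_mul]
      apply Subtype.ext
      rw [SubgroupClass.coe_pow, Subgroup.coe_mul, key u hu, key v hv, ← map_mul, ← map_pow, hcn, map_one]
      rfl
    · push Not at hA
      obtain ⟨g₀, hg₀, hk⟩ := hA
      set k := g₀.right.toAdd.val with hkdef
      have hωk : ω ^ k ≠ 1 := fun e => hk (hR.hω ▸ orderOf_dvd_of_pow_eq_one e)
      have hconj : ∀ d, g₀ * SemidirectProduct.inl d * g₀⁻¹ =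
          SemidirectProduct.inl (g₀.left * (θ ^ k) d * g₀.left⁻¹) := fun d => by
        rw [← hφ g₀.right]
        ext <;> simp
      let S : AddSubgroup F :=
        { carrier := {x | ∃ d, SemidirectProduct.inl d ∈ K ∧ (π d).toAdd = x}
          zero_mem' := ⟨1, by rw [map_one]; exact K.one_mem, by rw [map_one]; rfl⟩
          add_mem' := by
            rintro _ _ ⟨d, hd, rfl⟩ ⟨e, he, rfl⟩
            exact ⟨d * e, by rw [map_mul]; exact K.mul_mem hd he, by rw [map_mul, toAdd_mul]⟩
          neg_mem' := by
            rintro _ ⟨d, hd, rfl⟩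
            exact ⟨d⁻¹, by rw [map_inv]; exact K.inv_mem hd, by rw [map_inv, toAdd_inv]⟩ }
      have hS : ∀ x ∈ S, ω ^ k * x ∈ S := by
        rintro _ ⟨d, hd, rfl⟩
        refine ⟨g₀.left * (θ ^ k) d * g₀.left⁻¹, ?_, ?_⟩
        · rw [← hconj]; exact K.mul_mem (K.mul_mem hg₀ hd) (K.inv_mem hg₀)
        · simp only [map_mul π, map_inv π, toAdd_mul, toAdd_inv, h.apply_pow]
          abel
      have hsmall : ∀ d, SemidirectProduct.inl d ∈ K → d ∈ π.ker := by
        intro d hd
        by_contra hne
        apply hK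
        have hStop := hR.eq_top_of_stable hωk S hS (x := (π d).toAdd) ⟨d, hd, rfl⟩
          (fun e => hne (Multiplicative.toAdd.injective e))
        have hM : K.comap SemidirectProduct.inl = ⊤ := by
          refine h.eq_top_of_map hR _ ((Subgroup.eq_top_iff' _).2 fun v => ?_)
          obtain ⟨e, he, hev⟩ : v.toAdd ∈ S := hStop ▸ AddSubgroup.mem_top _
          exact ⟨e, he, Multiplicative.toAdd.injective hev⟩
        have hinl : ∀ e, SemidirectProduct.inl e ∈ K := fun e => (hM ▸ Subgroup.mem_top e :)
        refine (Subgroup.eq_top_iff' _).2 fun g => ?_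
        rw [← SemidirectProduct.inl_left_mul_inr_right g]
        refine K.mul_mem (hinl _) ?_
        have hc0 : SemidirectProduct.inr g₀.right ∈ K := by
          have := K.mul_mem (K.inv_mem (hinl g₀.left)) hg₀
          nth_rewrite 2 [← SemidirectProduct.inl_left_mul_inr_right g₀] at this
          rwa [inv_mul_cancel_left] at this
        have hu : (k : ZMod n) * (k : ZMod n)⁻¹ = 1 :=
          ZMod.coe_mul_inv_eq_one k (hn ▸ Nat.Coprime.pow_right r ((hR.hq.coprime_iff_not_dvd.2 hk).symm))
        have : g.right = g₀.right ^ (g.right.toAdd * (k : ZMod n)⁻¹).val := by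
          apply Multiplicative.toAdd.injective
          rw [toAdd_pow, nsmul_eq_mul, ZMod.natCast_zmod_val]
          rw [hkdef, ZMod.natCast_zmod_val] at hu
          rw [mul_assoc, mul_comm _ g₀.right.toAdd, hkdef, ZMod.natCast_zmod_val, hu, mul_one]
        rw [this, map_pow]
        exact K.pow_mem hc0 _
      have hfix : ∀ d ∈ π.ker, ∀ i : ℕ, (θ ^ i) d = d := fun d hd i => by
        induction i with
        | zero => rfl
        | succ i ih => rw [pow_succ, MulAut.mul_apply, h.fixed d hd, ih]
      have hcomm := commutative_of_cyclic_center_quotient (SemidirectProduct.rightHom.comp K.subtype)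
        (fun w hw => Subgroup.mem_center_iff.2 fun v => by
          have hw' : (w : D ⋊[φ] Multiplicative (ZMod n)).right = 1 := hw
          have hker := hsmall (w : D ⋊[φ] Multiplicative (ZMod n)).left (by
            have := SemidirectProduct.inl_left_mul_inr_right (w : D ⋊[φ] Multiplicative (ZMod n))
            rw [hw', map_one, mul_one] at this
            rw [this]; exact w.2)
          apply Subtype.ext
          apply SemidirectProduct.ext
          · rw [Subgroup.coe_mul, Subgroup.coe_mul, SemidirectProduct.mul_left, SemidirectProduct.mul_left,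
              hw', map_one, MulAut.one_apply, hφ, hfix _ hker]
            exact Subgroup.mem_center_iff.1 (h.central hker) _
          · rw [Subgroup.coe_mul, Subgroup.coe_mul, SemidirectProduct.mul_right, SemidirectProduct.mul_right,
              hw', mul_one, one_mul])
      exact build fun u v hu hv => by rw [Commute.mul_pow (hcomm u v), hu, hv, mul_one]

end CfsgLib.SchmidtCover
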