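import Mathlib
import Cfsg.Agent.S0132
import Cfsg.Agent.Lib.Schmidt.CoverBound
import Cfsg.Agent.Lib.Char.PiPart
import Cfsg.Agent.Lib.HSub.Fusion
import Cfsg.Agent.Lib.OddOmega.Basic

/-!
The normal Sylow subgroup of a minimal non-`p`-nilpotent group is a cover, and two covers one of
which attains the bound are comparable.
-/

set_option autoImplicit false
set_option linter.style.haveILetI false

open scoped commutatorElement

namespace CfsgLib.SchmidtCover

universe u v

theorem sylow_card_eq {X : Type*} [Group X] [Finite X] {p m t : ℕ} [Fact p.Prime]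
    (hm : m.Coprime p) (hX : Nat.card X = p ^ t * m) (P : Sylow p X) :
    Nat.card (P : Subgroup X) = p ^ t := by
  obtain ⟨j, hj⟩ := P.2.exists_card_eq
  have hi : (p ^ t).Coprime (P : Subgroup X).index :=
    Nat.Coprime.pow_left t ((Fact.out : p.Prime).coprime_iff_not_dvd.2 P.not_dvd_index)
  refine Nat.dvd_antisymm ?_ ?_
  · have h1 := Subgroup.card_subgroup_dvd_card (P : Subgroup X)
    rw [hX] at h1
    rw [hj] at h1 ⊢
    exact (Nat.Coprime.pow_left j hm.symm).dvd_of_dvd_mul_right h1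
  · have h1 : p ^ t ∣ Nat.card (P : Subgroup X) * (P : Subgroup X).index := by
      rw [Subgroup.card_mul_index, hX]; exact dvd_mul_right _ _
    exact hi.dvd_of_dvd_mul_right h1

variable {p q a : ℕ} [hp : Fact p.Prime]
variable {F : Type v} [Field F] [Finite F] [Algebra (ZMod p) F] {ω : F}

/-- An irreducible module for an automorphism of order `q` is the field. -/
theorem exists_coordinates (hR : RootData p q a F ω) {V : Type*} [AddCommGroup V] [Module (ZMod p) V]
    [Finite V] {v₀ : V} (hv₀ : v₀ ≠ 0) (A : Module.End (ZMod p) V) (hAq : A ^ q = 1)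
    (hinjA : Function.Injective (A - 1 : Module.End (ZMod p) V))
    (hirr : ∀ W : Submodule (ZMod p) V, (∀ v ∈ W, A v ∈ W) → W = ⊥ ∨ W = ⊤) :
    ∃ (e : F ≃+ V) (s : ℕ), q.Coprime s ∧ ∀ x, e (ω * x) = (A ^ s) (e x) := by
  classical
  haveI := Fact.mk hR.hq
  haveI : NeZero q := ⟨hR.hq.ne_zero⟩
  have hker : ∀ f : Polynomial (ZMod p), ∀ v, Polynomial.aeval A f (A v) = A (Polynomial.aeval A f v) := by
    intro f v
    have h3 := congrArg (fun g => (Polynomial.aeval A g : Module.End (ZMod p) (V)) v)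
      (mul_comm f Polynomial.X)
    simpa using h3
  -- a root of unity annihilating the module
  obtain ⟨ζ, hζq, hζA⟩ : ∃ ζ : F, ζ ^ q = 1 ∧ Polynomial.aeval A (minpoly (ZMod p) ζ) = 0 := by
    by_contra hno
    push Not at hno
    let N : Polynomial (ZMod p) := ∏ ζ ∈ Polynomial.nthRootsFinset q (1 : F), minpoly (ZMod p) ζ
    have hdvd : (Polynomial.X ^ q - 1 : Polynomial (ZMod p)) ∣ N := by
      rw [← Polynomial.map_dvd_map' (algebraMap (ZMod p) F), Polynomial.map_sub, Polynomial.map_pow,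
        Polynomial.map_X, Polynomial.map_one, Polynomial.map_prod,
        Polynomial.X_pow_sub_one_eq_prod hR.hq.pos (hR.hω ▸ IsPrimitiveRoot.orderOf ω)]
      refine Finset.prod_dvd_prod_of_dvd _ _ fun ζ _ => ?_
      rw [Polynomial.dvd_iff_isRoot, Polynomial.IsRoot.def, Polynomial.eval_map_algebraMap, minpoly.aeval]
    have hN : Function.Injective (Polynomial.aeval A N) := by
      refine Finset.prod_induction _ (fun f => Function.Injective (Polynomial.aeval A f)) ?_ ?_ fun ζ hζ => ?_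
      · intro f g hf hg
        rw [map_mul]; exact hf.comp hg
      · rw [map_one]; exact Function.injective_id
      · have hζ' := (Polynomial.mem_nthRootsFinset hR.hq.pos (1 : F)).1 hζ
        rcases hirr (LinearMap.ker (Polynomial.aeval A (minpoly (ZMod p) ζ))) (fun v hv => by
          rw [LinearMap.mem_ker] at hv ⊢; rw [hker, hv, map_zero]) with h3 | h3
        · exact LinearMap.ker_eq_bot.1 h3
        · exact absurd (LinearMap.ker_eq_top.1 h3) (hno ζ hζ')
    refine hv₀ (hN ?_)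
    obtain ⟨g, hg⟩ := hdvd
    rw [hg, map_mul, map_sub, map_pow, Polynomial.aeval_X, map_one, hAq, sub_self, zero_mul]
    simp
  have hζ1 : ζ ≠ 1 := fun he => by
    rw [he, minpoly.one, map_sub, Polynomial.aeval_X, map_one] at hζA
    exact hv₀ (hinjA (by rw [hζA]; rfl))
  have hζo : orderOf ζ = q := orderOf_eq_prime hζq hζ1
  have hR' : RootData p q a F ζ := ⟨hR.hq, hR.hpq, hR.ha, hR.hcard, hζo⟩
  obtain ⟨s, -, hs⟩ := (hζo ▸ IsPrimitiveRoot.orderOf ζ : IsPrimitiveRoot ζ q).eq_pow_of_pow_eq_one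
    (by rw [← hR.hω]; exact pow_orderOf_eq_one ω : ω ^ q = 1)
  have hsq : q.Coprime s := hR.hq.coprime_iff_not_dvd.2 fun ⟨k, hk⟩ => by
    rw [hk, pow_mul, hζq, one_pow] at hs
    exact hR.hq.ne_one (by rw [← hR.hω, ← hs, orderOf_one])
  -- the module is the field
  obtain ⟨sec, hsec⟩ := hR'.aeval_surjective.hasRightInverse
  have hwd : ∀ f, Polynomial.aeval A (sec (Polynomial.aeval ζ f)) v₀ = Polynomial.aeval A f v₀ := fun f => by
    obtain ⟨g, hg⟩ := minpoly.dvd (ZMod p) ζ
      (show Polynomial.aeval ζ (sec (Polynomial.aeval ζ f) - f) = 0 by rw [map_sub, hsec, sub_self])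
    rw [← sub_eq_zero, ← LinearMap.sub_apply, ← map_sub, hg, map_mul, hζA, zero_mul]
    rfl
  let e₀ : F →+ V := AddMonoidHom.mk' (fun x => Polynomial.aeval A (sec x) v₀) fun x y => by
    conv_lhs => rw [← hsec x, ← hsec y, ← map_add, hwd, map_add, LinearMap.add_apply]
  have he : Function.Bijective e₀ := by
    constructor
    · refine (injective_iff_map_eq_zero e₀).2 fun x hx => ?_
      by_contra hx0
      obtain ⟨g, hg⟩ := hR'.aeval_surjective x⁻¹
      apply hv₀
      have h3 := hwd (g * sec x)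
      rw [map_mul, hg, hsec, inv_mul_cancel₀ hx0] at h3
      have h4 := hwd 1
      rw [map_one] at h4
      have h5 : Polynomial.aeval A (g * sec x) v₀ = 0 := by
        rw [map_mul, Module.End.mul_apply]
        exact (congrArg _ (hx : Polynomial.aeval A (sec x) v₀ = 0)).trans (map_zero _)
      rw [h4] at h3
      rw [h5, map_one, Module.End.one_apply] at h3
      exact h3
    · intro v
      let W : Submodule (ZMod p) (V) :=
        LinearMap.range ((LinearMap.applyₗ v₀).comp (Polynomial.aeval A).toLinearMap)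
      rcases hirr W (by
        rintro _ ⟨f, rfl⟩
        exact ⟨Polynomial.X * f, by simp⟩) with h3 | h3
      · refine absurd ((Submodule.eq_bot_iff _).1 h3 v₀ ⟨1, by simp⟩) hv₀
      · obtain ⟨f, hf⟩ := (h3 ▸ Submodule.mem_top : v ∈ W)
        exact ⟨Polynomial.aeval ζ f, (hwd f).trans hf⟩
  let e : F ≃+ V := AddEquiv.ofBijective e₀ he
  have hes : ∀ x, e (ω * x) = (A ^ s) (e x) := fun x => by
    show Polynomial.aeval A (sec (ω * x)) v₀ = (A ^ s) (Polynomial.aeval A (sec x) v₀)
    rw [show ω * x = Polynomial.aeval ζ (Polynomial.X ^ s * sec x) by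
        rw [map_mul, map_pow, Polynomial.aeval_X, hs, hsec],
      hwd, map_mul, map_pow, Polynomial.aeval_X, Module.End.mul_apply]
  exact ⟨e, s, hsq, hes⟩

/-- The normal Sylow subgroup of a minimal non-`p`-nilpotent group is a cover. -/
theorem exists_cover_of_minimal (hR : RootData p q a F ω) {X : Type u} [Group X] [Finite X]
    (h1 : ¬ Cfsg.HasNormalPComplement p X)
    (h2 : ∀ K : Subgroup X, K ≠ ⊤ → Cfsg.HasNormalPComplement p K) {t r : ℕ} (hr : 1 ≤ r)
    (hX : Nat.card X = p ^ t * q ^ r) :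
    ∃ (P : Subgroup X) (θ : MulAut P) (ψ : P →* Multiplicative F) (b : X),
      Cover p ω P θ ψ ∧ (∀ m : P, (θ m : X) = b * m * b⁻¹) ∧ orderOf b = q ^ r ∧
        P ⊔ Subgroup.zpowers b = ⊤ := by
  classical
  haveI := Fact.mk hR.hq
  have hqp : q.Coprime p := (Nat.coprime_primes hR.hq hp.out).2 (Ne.symm hR.hpq)
  obtain ⟨hnil, -, hPn⟩ := Cfsg.Agent.S0132.result h1 h2
  obtain ⟨S⟩ := (inferInstance : Nonempty (Sylow p X))
  obtain ⟨T⟩ := (inferInstance : Nonempty (Sylow q X))
  have hS : Nat.card (S : Subgroup X) = p ^ t := sylow_card_eq (hqp.pow_left r) hX S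
  have hT : Nat.card (T : Subgroup X) = q ^ r :=
    sylow_card_eq (hqp.symm.pow_left t) (by rw [hX, mul_comm]) T
  set P : Subgroup X := (S : Subgroup X) with hP
  haveI hPnor : P.Normal := hPn S
  have hPp : IsPGroup p P := S.2
  have hPi : P.index = q ^ r := by
    have := P.card_mul_index
    rw [hS, hX] at this
    exact Nat.eq_of_mul_eq_mul_left (pow_pos hp.out.pos t) this
  have hord : ∀ z, P ⊔ Subgroup.zpowers z = ⊤ → q ^ r ∣ orderOf z := fun z hz => by
    rw [← hPi, ← Nat.card_zpowers, ← Subgroup.relIndex_top_right, ← hz, Subgroup.relIndex_sup_left]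
    exact Subgroup.relIndex_dvd_card P _
  have hcomm : ∀ (H : Subgroup X) (z m : X), H ≠ ⊤ → z ∈ H → m ∈ H → m ∈ P → z ∈ (T : Subgroup X) →
      Commute z m := fun H z m hH hz hm hmP hzT => by
    haveI := hnil H hH
    obtain ⟨i, hi⟩ := IsPGroup.iff_orderOf.1 T.2 ⟨z, hzT⟩
    obtain ⟨j, hj⟩ := IsPGroup.iff_orderOf.1 hPp ⟨m, hmP⟩
    rw [← Subgroup.orderOf_coe] at hi hj
    have := CfsgLib.Char.PiPart.commute_of_coprime (x := (⟨z, hz⟩ : H)) (y := ⟨m, hm⟩) (by
      rw [← Subgroup.orderOf_coe, ← Subgroup.orderOf_coe]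
      show (orderOf z).Coprime (orderOf m)
      rw [show orderOf z = q ^ i from hi, show orderOf m = p ^ j from hj]
      exact Nat.Coprime.pow i j hqp)
    exact congrArg Subtype.val this.eq
  have hnotcent : ¬ ∀ z ∈ (T : Subgroup X), ∀ m ∈ P, Commute z m := by
    intro hall
    apply h1
    have htop : P ⊔ (T : Subgroup X) = ⊤ := by
      apply Subgroup.eq_top_of_card_eq
      refine Nat.dvd_antisymm (Subgroup.card_subgroup_dvd_card _) ?_
      rw [hX, ← hS, ← hT]
      refine Nat.Coprime.mul_dvd_of_dvd_of_dvd ?_ (Subgroup.card_dvd_of_le le_sup_left)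
        (Subgroup.card_dvd_of_le le_sup_right)
      rw [hS, hT]
      exact Nat.Coprime.pow t r hqp.symm
    haveI : (T : Subgroup X).Normal := by
      refine Subgroup.normalizer_eq_top_iff.1 (top_le_iff.1 (htop ▸ sup_le (fun m hm => ?_) Subgroup.le_normalizer))
      refine Subgroup.centralizer_le_normalizer _ (Subgroup.mem_centralizer_iff.2 fun z hz => ?_)
      exact (hall z hz m hm).eq
    refine CfsgLib.Transfer.hasNormalPComplement_of_le_of_isPGroup_quotient (T : Subgroup X) ?_ ?_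
    · rw [hT]; exact hqp.pow_left r
    · refine IsPGroup.of_card (n := t) ?_
      rw [← Subgroup.index_eq_card]
      have := (T : Subgroup X).card_mul_index
      rw [hT, hX, mul_comm (p ^ t)] at this
      exact Nat.eq_of_mul_eq_mul_left (pow_pos hR.hq.pos r) this
  obtain ⟨y, hyT, hy⟩ : ∃ y ∈ (T : Subgroup X), P ⊔ Subgroup.zpowers y = ⊤ := by
    by_contra hno
    push Not at hno
    exact hnotcent fun z hz m hm => hcomm _ z m (hno z hz)
      (le_sup_right (a := P) (Subgroup.mem_zpowers z)) (le_sup_left (b := Subgroup.zpowers z) hm) hm hz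
  have hoy : orderOf y = q ^ r :=
    Nat.dvd_antisymm (hT ▸ Subgroup.orderOf_dvd_natCard _ hyT) (hord y hy)
  have hyq : ∀ m ∈ P, Commute (y ^ q) m := fun m hm => by
    refine hcomm (P ⊔ Subgroup.zpowers (y ^ q)) _ m (fun he => ?_)
      (le_sup_right (a := P) (Subgroup.mem_zpowers _)) (le_sup_left (b := Subgroup.zpowers _) hm) hm (pow_mem hyT q)
    have h3 := hord _ he
    rw [orderOf_pow_of_dvd hR.hq.ne_zero (hoy ▸ dvd_pow_self q (by omega)), hoy] at h3
    have h4 : q ^ r / q < q ^ r := Nat.div_lt_self (pow_pos hR.hq.pos r) hR.hq.one_lt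
    exact absurd (Nat.le_of_dvd (Nat.div_pos (Nat.le_self_pow (by omega) q) hR.hq.pos) h3) (by omega)
  let θ : MulAut P := MulAut.conjNormal y
  have hθpow : ∀ (i : ℕ) (m : P), ((θ ^ i) m : X) = y ^ i * m * (y ^ i)⁻¹ := fun i m => by
    rw [← map_pow, MulAut.conjNormal_apply]
  have hθq : θ ^ q = 1 := MulEquiv.ext fun m => Subtype.ext (by
    rw [hθpow, (hyq m m.2).eq, mul_inv_cancel_right]; rfl)
  have hne : θ ≠ 1 := fun he => by
    apply hnotcent
    have hTy : Subgroup.zpowers y = (T : Subgroup X) :=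
      Subgroup.eq_of_le_of_card_ge (Subgroup.zpowers_le.2 hyT) (by rw [Nat.card_zpowers, hoy, hT])
    intro z hz m hm
    rw [← hTy] at hz
    obtain ⟨i, rfl⟩ := Subgroup.mem_zpowers_iff.1 hz
    refine Commute.zpow_left ?_ i
    have h3 : y * m * y⁻¹ = m := congrArg Subtype.val (DFunLike.congr_fun he (⟨m, hm⟩ : P))
    exact mul_inv_eq_iff_eq_mul.1 h3
  -- proper stable subgroups are fixed
  have hfixed : ∀ M : Subgroup P, (∀ m ∈ M, θ m ∈ M) → M ≠ ⊤ → ∀ m ∈ M, θ m = m := by
    intro M hM hMne m hm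
    set M' := M.map P.subtype with hM'
    have hconj : Subgroup.zpowers y ≤ Subgroup.normalizer (M' : Set X) := by
      rw [Subgroup.zpowers_le]
      refine Transfer.map_conj_eq_self_iff.mp (Subgroup.eq_of_le_of_card_ge ?_ (Transfer.card_conj_map y M').ge)
      rintro _ ⟨_, ⟨x, hx, rfl⟩, rfl⟩
      exact ⟨θ x, hM x hx, rfl⟩
    have hH : M' ⊔ Subgroup.zpowers y ≠ ⊤ := by
      intro he
      haveI : M'.Normal := Subgroup.normalizer_eq_top_iff.1
        (top_le_iff.1 (he ▸ sup_le Subgroup.le_normalizer hconj))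
      have h3 : M'.index ≤ q ^ r := by
        rw [← hoy, ← Nat.card_zpowers, ← Subgroup.relIndex_top_right, ← he, Subgroup.relIndex_sup_left]
        exact Nat.le_of_dvd Nat.card_pos (Subgroup.relIndex_dvd_card M' _)
      have h4 := M'.card_mul_index
      rw [hX, hM', Subgroup.card_map_of_injective P.subtype_injective] at h4
      apply hMne
      apply Subgroup.eq_top_of_le_card
      rw [hS]
      exact Nat.le_of_mul_le_mul_right (h4 ▸ Nat.mul_le_mul_left _ h3) (pow_pos hR.hq.pos r)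
    have h5 := hcomm _ y m hH (le_sup_right (a := M') (Subgroup.mem_zpowers y))
      (le_sup_left (b := Subgroup.zpowers y) ⟨m, hm, rfl⟩) m.2 hyT
    exact Subtype.ext (by rw [MulAut.conjNormal_apply, h5.eq, mul_inv_cancel_right])
  let C : Subgroup P := Subgroup.closure (Set.range fun m => θ m * m⁻¹)
  have hCtop : C = ⊤ := by
    by_contra hC
    have hCs : ∀ x ∈ C, θ x ∈ C := by
      have hle : C ≤ C.comap θ.toMonoidHom := by
        rw [Subgroup.closure_le]
        rintro _ ⟨m, rfl⟩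
        exact Subgroup.subset_closure ⟨θ m, by simp⟩
      exact fun x hx => hle hx
    refine hne (CfsgLib.OddOmega.eq_one_of_fixed_diff hPp θ (fun hd => ?_) fun x => ?_)
    · exact hR.hpq ((Nat.prime_dvd_prime_iff_eq hp.out hR.hq).1
        (hd.trans (orderOf_dvd_of_pow_eq_one hθq)))
    · refine hfixed C hCs hC _ ?_
      have := C.inv_mem (Subgroup.subset_closure (Set.mem_range_self x⁻¹))
      simpa using this
  set Φ := frattini P with hΦ
  have hΦs : ∀ x ∈ Φ, θ x ∈ Φ := fun x hx => by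
    have : Φ.comap θ.toMonoidHom = Φ := Subgroup.Characteristic.fixed (H := Φ) inferInstance θ
    rwa [← this] at hx
  have hΦne : Φ ≠ ⊤ := fun he => by
    have hbot : (⊥ : Subgroup P) = ⊤ := frattini_nongenerating (by rw [← hΦ, he, bot_sup_eq])
    refine hne (MulEquiv.ext fun m => ?_)
    have hm : m = 1 := Subgroup.mem_bot.1 (hbot ▸ Subgroup.mem_top m)
    rw [hm, map_one, map_one]
  have hΦfix := hfixed Φ hΦs hΦne
  have hcΦ : commutator P ≤ Φ := CfsgLib.HSub.commutator_le_frattini hPp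
  have hΦc : Φ ≤ Subgroup.center P := fun f hf => by
    have hle : C ≤ Subgroup.centralizer {f} := by
      rw [Subgroup.closure_le]
      rintro _ ⟨m, rfl⟩
      rw [SetLike.mem_coe, Subgroup.mem_centralizer_singleton_iff]
      have hk : ⁅f, m⁻¹⁆ ∈ Φ := hcΦ (Subgroup.commutator_mem_commutator (Subgroup.mem_top _) (Subgroup.mem_top _))
      have h3 := hΦfix _ hk
      rw [map_commutatorElement, hΦfix f hf, map_inv] at h3
      rw [commutatorElement_def, commutatorElement_def, inv_inv, inv_inv] at h3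
      have h4 : (θ m)⁻¹ * f⁻¹ * θ m = m⁻¹ * f⁻¹ * m :=
        mul_left_cancel (a := f) (by simpa only [mul_assoc] using h3)
      have h5 : f⁻¹ * (θ m * m⁻¹) = θ m * m⁻¹ * f⁻¹ := by
        calc _ = θ m * ((θ m)⁻¹ * f⁻¹ * θ m) * m⁻¹ := by group
          _ = _ := by rw [h4]; group
      exact (Commute.inv_left_iff.1 h5).eq.symm
    refine Subgroup.mem_center_iff.2 fun g => ?_
    exact Subgroup.mem_centralizer_singleton_iff.1 (hle (hCtop ▸ Subgroup.mem_top g))
  letI : CommGroup (P ⧸ Φ) := { (inferInstance : Group (P ⧸ Φ)) with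
    mul_comm := fun x y => by
      induction x using QuotientGroup.induction_on with
      | _ x => induction y using QuotientGroup.induction_on with
        | _ y =>
          rw [← QuotientGroup.mk_mul, ← QuotientGroup.mk_mul, QuotientGroup.eq]
          refine hcΦ ?_
          rw [show (x * y)⁻¹ * (y * x) = ⁅y⁻¹, x⁻¹⁆ by rw [commutatorElement_def]; group]
          exact Subgroup.commutator_mem_commutator (Subgroup.mem_top _) (Subgroup.mem_top _) }
  have hexp : ∀ x : Additive (P ⧸ Φ), p • x = 0 := fun x => by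
    obtain ⟨x, rfl⟩ := Additive.ofMul.surjective x
    induction x using QuotientGroup.induction_on with
    | _ x =>
      rw [← ofMul_pow, ← QuotientGroup.mk_pow, (QuotientGroup.eq_one_iff _).2
        (CfsgLib.OddOmega.pow_mem_frattini hPp x), ofMul_one]
  haveI : Module (ZMod p) (Additive (P ⧸ Φ)) := AddCommGroup.zmodModule hexp
  let θb : P ⧸ Φ →* P ⧸ Φ := QuotientGroup.map Φ Φ θ.toMonoidHom fun x hx => hΦs x hx
  let A : Additive (P ⧸ Φ) →ₗ[ZMod p] Additive (P ⧸ Φ) := (MonoidHom.toAdditive θb).toZModLinearMap p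
  let mkV : P → Additive (P ⧸ Φ) := fun m => Additive.ofMul (m : P ⧸ Φ)
  have hmk : ∀ v, ∃ m, mkV m = v := fun v => by
    obtain ⟨m, hm⟩ := QuotientGroup.mk_surjective (Additive.toMul v)
    exact ⟨m, congrArg Additive.ofMul hm⟩
  have hA : ∀ m, A (mkV m) = mkV (θ m) := fun _ => rfl
  have hApow : ∀ (i : ℕ) (m : P), (A ^ i) (mkV m) = mkV ((θ ^ i) m) := by
    intro i
    induction i with
    | zero => intro m; simp
    | succ i ih =>
      intro m
      rw [pow_succ, Module.End.mul_apply, hA, ih, pow_succ, MulAut.mul_apply]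
  have hAq : A ^ q = 1 := LinearMap.ext fun v => by
    obtain ⟨m, rfl⟩ := hmk v
    rw [hApow, hθq]; rfl
  have hinjA : Function.Injective (A - 1 : Module.End (ZMod p) (Additive (P ⧸ Φ))) := by
    rw [Finite.injective_iff_surjective]
    let R : Subgroup P :=
      { carrier := {m | mkV m ∈ LinearMap.range (A - 1)}
        one_mem' := (LinearMap.range (A - 1)).zero_mem
        mul_mem' := fun {m n} hm hn => (LinearMap.range (A - 1)).add_mem hm hn
        inv_mem' := fun {m} hm => (LinearMap.range (A - 1)).neg_mem hm }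
    have hR' : C ≤ R := by
      rw [Subgroup.closure_le]
      rintro _ ⟨m, rfl⟩
      refine ⟨mkV m, ?_⟩
      rw [LinearMap.sub_apply, hA, Module.End.one_apply]
      show _ = Additive.ofMul ((θ m * m⁻¹ : P) : P ⧸ Φ)
      rw [QuotientGroup.mk_mul, QuotientGroup.mk_inv, ofMul_mul, ofMul_inv, ← sub_eq_add_neg]
    intro v
    obtain ⟨m, rfl⟩ := hmk v
    exact hR' (hCtop ▸ Subgroup.mem_top m)
  have hirr : ∀ W : Submodule (ZMod p) (Additive (P ⧸ Φ)), (∀ v ∈ W, A v ∈ W) → W = ⊥ ∨ W = ⊤ := by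
    intro W hW
    let M : Subgroup P :=
      { carrier := {m | mkV m ∈ W}
        one_mem' := W.zero_mem
        mul_mem' := fun {m n} hm hn => W.add_mem hm hn
        inv_mem' := fun {m} hm => W.neg_mem hm }
    by_cases hMtop : M = ⊤
    · refine Or.inr (Submodule.eq_top_iff'.2 fun v => ?_)
      obtain ⟨m, rfl⟩ := hmk v
      exact (hMtop ▸ Subgroup.mem_top m : m ∈ M)
    · refine Or.inl ((Submodule.eq_bot_iff _).2 fun v hv => ?_)
      obtain ⟨m, rfl⟩ := hmk v
      apply hinjA
      rw [map_zero, LinearMap.sub_apply, hA, hfixed M (fun n hn => (hW _ hn : A (mkV n) ∈ W)) hMtop m hv,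
        Module.End.one_apply, sub_self]
  obtain ⟨v₀, hv₀⟩ : ∃ v : Additive (P ⧸ Φ), v ≠ 0 := by
    by_contra hz
    push Not at hz
    exact hΦne ((Subgroup.eq_top_iff' _).2 fun m => (QuotientGroup.eq_one_iff m).1 (hz (mkV m)))
  obtain ⟨e, s, hsq, hes⟩ := exists_coordinates hR hv₀ A hAq hinjA hirr
  let ψ : P →* Multiplicative F := MonoidHom.mk' (fun m => Multiplicative.ofAdd (e.symm (mkV m)))
    fun m n => by
      rw [← ofAdd_add, ← map_add]
      exact congrArg Multiplicative.ofAdd (congrArg e.symm (congrArg Additive.ofMul (QuotientGroup.mk_mul Φ m n)))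
  have hψker : ψ.ker = Φ := by
    ext m
    rw [MonoidHom.mem_ker, ← QuotientGroup.eq_one_iff m]
    constructor
    · intro hm
      have h3 : e.symm (mkV m) = 0 := congrArg Multiplicative.toAdd hm
      exact congrArg Additive.toMul ((AddEquiv.map_eq_zero_iff e.symm).1 h3)
    · intro hm
      show Multiplicative.ofAdd (e.symm (Additive.ofMul (m : P ⧸ Φ))) = 1
      rw [hm, ofMul_one, map_zero, ofAdd_zero]
  refine ⟨P, θ ^ s, ψ, y ^ s, ⟨hPp, fun v => ?_, fun m => ?_, hψker ▸ hΦc, fun m hm => ?_,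
    fun M _ hM => ?_⟩, hθpow s, ?_, ?_⟩
  · obtain ⟨m, hm⟩ := hmk (e v.toAdd)
    exact ⟨m, by show Multiplicative.ofAdd (e.symm (mkV m)) = v; rw [hm, e.symm_apply_apply]; rfl⟩
  · show e.symm (mkV ((θ ^ s) m)) = ω * e.symm (mkV m)
    apply e.injective
    rw [hes, e.apply_symm_apply, e.apply_symm_apply, hApow]
  · rw [hψker] at hm
    have hit : ∀ i : ℕ, (θ ^ i) m = m := fun i => by
      induction i with
      | zero => rfl
      | succ i ih => rw [pow_succ, MulAut.mul_apply, hΦfix m hm, ih]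
    exact hit s
  · apply frattini_nongenerating
    rw [← hΦ, ← hψker, ← Subgroup.comap_map_eq, hM, Subgroup.comap_top]
  · rw [Nat.Coprime.orderOf_pow (hoy ▸ Nat.Coprime.pow_left r hsq), hoy]
  · have h3 : Subgroup.zpowers (y ^ s) = Subgroup.zpowers y :=
      Subgroup.eq_of_le_of_card_ge (Subgroup.zpowers_le.2 (pow_mem (Subgroup.mem_zpowers y) s))
        (by rw [Nat.card_zpowers, Nat.card_zpowers, Nat.Coprime.orderOf_pow (hoy ▸ Nat.Coprime.pow_left r hsq)])
    rw [h3, hy]

/-- A cover attaining the bound maps onto every cover. -/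
theorem exists_surjection (hR : RootData p q a F ω) {D₀ : Type*} [Group D₀] [Finite D₀]
    {θ₀ : MulAut D₀} {π₀ : D₀ →* Multiplicative F} (h₀ : Cover p ω D₀ θ₀ π₀)
    (hcard : Nat.card D₀ = p ^ a * (if a % 2 = 1 then 1 else p ^ (a / 2)))
    {P : Type*} [Group P] [Finite P] {θ : MulAut P} {ψ : P →* Multiplicative F}
    (hP : Cover p ω P θ ψ) :
    ∃ χ : D₀ →* P, Function.Surjective χ ∧ (∀ d, χ (θ₀ d) = θ (χ d)) ∧ χ.ker ≤ π₀.ker := by
  classical
  let Θ : MulAut (P × D₀) := MulEquiv.prodCongr θ θ₀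
  let π : P × D₀ →* Multiplicative F := π₀.comp (MonoidHom.snd P D₀)
  let Good : Set (Subgroup (P × D₀)) :=
    {M | (∀ z ∈ M, ψ z.1 = π₀ z.2) ∧ (∀ z ∈ M, Θ z ∈ M) ∧ M.map π = ⊤}
  have hne : (MonoidHom.eqLocus (ψ.comp (MonoidHom.fst P D₀)) π) ∈ Good := by
    refine ⟨fun z hz => hz, fun z hz => ?_, (Subgroup.eq_top_iff' _).2 fun v => ?_⟩
    · have hz' : ψ z.1 = π₀ z.2 := hz
      show ψ (θ z.1) = π₀ (θ₀ z.2)
      apply Multiplicative.toAdd.injective
      rw [hP.equiv, h₀.equiv, hz']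
    · obtain ⟨m, hm⟩ := hP.surj v
      obtain ⟨d, hd⟩ := h₀.surj v
      exact ⟨(m, d), hm.trans hd.symm, hd⟩
  obtain ⟨M, hM⟩ := (Set.toFinite Good).exists_minimal ⟨_, hne⟩
  obtain ⟨hM1, hM2, hM3⟩ := hM.prop
  let Θ' : MulAut M :=
    { toFun := fun z => ⟨Θ z, hM2 z z.2⟩
      invFun := fun z => ⟨Θ.symm z, by
        have hmap : M.map Θ.toMonoidHom = M :=
          Subgroup.eq_of_le_of_card_ge (by rintro _ ⟨w, hw, rfl⟩; exact hM2 w hw)
            (Subgroup.card_map_of_injective Θ.injective).ge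
        obtain ⟨w, hw, hwz⟩ := hmap.ge z.2
        rw [← hwz]
        simpa using hw⟩
      left_inv := fun z => Subtype.ext (Θ.symm_apply_apply _)
      right_inv := fun z => Subtype.ext (Θ.apply_symm_apply _)
      map_mul' := fun z w => Subtype.ext (map_mul Θ _ _) }
  let πM : M →* Multiplicative F := π.comp M.subtype
  have hMker : ∀ z : M, z ∈ πM.ker → z.1.1 ∈ ψ.ker ∧ z.1.2 ∈ π₀.ker := fun z hz =>
    ⟨(hM1 z z.2).trans hz, hz⟩
  have hcov : Cover p ω M Θ' πM := by
    refine ⟨?_, fun v => ?_, fun z => h₀.equiv _, fun z hz => ?_, fun z hz => ?_, fun N hN hNmap => ?_⟩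
    · obtain ⟨i, hi⟩ := hP.pgrp.exists_card_eq
      obtain ⟨j, hj⟩ := h₀.pgrp.exists_card_eq
      exact (IsPGroup.of_card (n := i + j) (by rw [Nat.card_prod, hi, hj, pow_add])).to_subgroup M
    · obtain ⟨z, hz, hzv⟩ := (hM3 ▸ Subgroup.mem_top v : v ∈ M.map π)
      exact ⟨⟨z, hz⟩, hzv⟩
    · obtain ⟨h1, h2⟩ := hMker z hz
      refine Subgroup.mem_center_iff.2 fun w => Subtype.ext (Prod.ext ?_ ?_)
      · exact Subgroup.mem_center_iff.1 (hP.central h1) _
      · exact Subgroup.mem_center_iff.1 (h₀.central h2) _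
    · obtain ⟨h1, h2⟩ := hMker z hz
      exact Subtype.ext (Prod.ext (hP.fixed _ h1) (h₀.fixed _ h2))
    · have hN' : N.map M.subtype ∈ Good := by
        refine ⟨?_, ?_, ?_⟩
        · rintro _ ⟨z, -, rfl⟩; exact hM1 z z.2
        · rintro _ ⟨z, hz, rfl⟩; exact ⟨Θ' z, hN z hz, rfl⟩
        · rw [Subgroup.map_map]; exact hNmap
      have h3 := hM.le_of_le hN' (Subgroup.map_subtype_le N)
      refine (Subgroup.eq_top_iff' _).2 fun z => ?_
      obtain ⟨w, hw, hwz⟩ := h3 z.2
      rwa [Subtype.ext hwz] at hw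
  let f₁ : M →* P := (MonoidHom.fst P D₀).comp M.subtype
  let f₂ : M →* D₀ := (MonoidHom.snd P D₀).comp M.subtype
  have hs1 : Function.Surjective f₁ := by
    refine MonoidHom.range_eq_top.1 (hP.minimal _ ?_ ?_)
    · rintro _ ⟨z, rfl⟩; exact ⟨Θ' z, rfl⟩
    · refine (Subgroup.eq_top_iff' _).2 fun v => ?_
      obtain ⟨z, hz⟩ := hcov.surj v
      exact ⟨f₁ z, ⟨z, rfl⟩, (hM1 z z.2).trans hz⟩
  have hs2 : Function.Surjective f₂ := by
    refine MonoidHom.range_eq_top.1 (h₀.minimal _ ?_ ?_)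
    · rintro _ ⟨z, rfl⟩; exact ⟨Θ' z, rfl⟩
    · refine (Subgroup.eq_top_iff' _).2 fun v => ?_
      obtain ⟨z, hz⟩ := hcov.surj v
      exact ⟨f₂ z, ⟨z, rfl⟩, hz⟩
  have hb : Function.Bijective f₂ := by
    refine ⟨?_, hs2⟩
    have h3 : Nat.card M ≤ Nat.card D₀ := by
      rw [← Subgroup.card_mul_index πM.ker, Subgroup.index_ker, MonoidHom.range_eq_top.2 hcov.surj,
        Subgroup.card_top, hcard, mul_comm]
      exact Nat.mul_le_mul hR.hcard.le (hcov.card_ker_le hR)
    exact (hs2.bijective_of_nat_card_le h3).1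
  let e := MulEquiv.ofBijective f₂ hb
  refine ⟨f₁.comp e.symm.toMonoidHom, hs1.comp e.symm.surjective, fun d => ?_, fun d hd => ?_⟩
  · obtain ⟨z, rfl⟩ := e.surjective d
    show f₁ (e.symm (θ₀ (e z))) = θ (f₁ (e.symm (e z)))
    rw [show θ₀ (e z) = e (Θ' z) from rfl, e.symm_apply_apply, e.symm_apply_apply]
    rfl
  · obtain ⟨z, rfl⟩ := e.surjective d
    have h4 : f₁ z = 1 := by
      have := hd
      rw [MonoidHom.mem_ker] at this
      rwa [MonoidHom.comp_apply, MulEquiv.coe_toMonoidHom, e.symm_apply_apply] at this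
    show π₀ z.1.2 = 1
    rw [← hM1 z z.2]
    show ψ (f₁ z) = 1
    rw [h4, map_one]

end CfsgLib.SchmidtCover
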